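import Cfsg.Agent.H695.Lie.SpOrth
import Cfsg.Agent.H206.PspFix

/-!
# `PSp_4(q)`, `q` odd (helper695)

An element that leaves invariant a hyperbolic plane without eigenvectors, and is trivial on the orthogonal plane, has no
invariant Lagrangian subspace; the character induced from the parabolic subgroup of a Lagrangian subspace vanishes.
-/

set_option autoImplicit false

open Cfsg

namespace Cfsg.Agent.H695.Lie.PSpFour

open Cfsg.Agent.H620 Cfsg.Agent.H477.HC Cfsg.Agent.H695.Lie.Base Cfsg.Agent.H620.RowSz Cfsg.Agent.Characters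
open Cfsg.Agent.ClassicalGeometry.SympBasic Cfsg.Agent.ClassicalGeometry.SympAutSemi Matrix
open Cfsg.Agent.H695.Lie.SpOrth Cfsg.Agent.H713

section

variable {F : Type} [Field F]

local notation "V" => (Fin 2 ⊕ Fin 2 → F)

/-- There is an invariant Lagrangian subspace. -/
def Lag (g : Equiv.Perm V) : Prop :=
  ∃ u v : V, u ≠ 0 ∧ (∀ c : F, v ≠ c • u) ∧ sympForm 2 F u v = 0 ∧ (∃ a b : F, g u = a • u + b • v) ∧
    ∃ a b : F, g v = a • u + b • v

theorem Lag.conj {g : Equiv.Perm V} (h : Lag g) (s : semiSim 2 F) : Lag (s.1 * g * s.1⁻¹) := by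
  obtain ⟨u, v, hu, hv, h0, ⟨a, b, h1⟩, c, d, h2⟩ := h
  obtain ⟨s, φ, l, hl, hs⟩ := s
  have hs0 : s 0 = 0 := by
    have := hs.1 0 0
    rw [add_zero] at this
    exact left_eq_add.1 this
  have e : ∀ x, (s * g * s⁻¹) (s x) = s (g x) := fun x => by
    rw [Equiv.Perm.mul_apply, Equiv.Perm.mul_apply, perm_inv_apply_self]
  refine ⟨s u, s v, fun h => hu (s.injective (h.trans hs0.symm)), fun c h => ?_, ?_, ⟨φ a, φ b, ?_⟩, φ c, φ d, ?_⟩
  · apply hv (φ.symm c)
    apply s.injective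
    rw [h, hs.2.1, RingEquiv.apply_symm_apply]
  · rw [hs.2.2, h0, map_zero, mul_zero]
  · change (s * g * s⁻¹) (s u) = _
    rw [e, h1, hs.1, hs.2.1, hs.2.1]
  · change (s * g * s⁻¹) (s v) = _
    rw [e, h2, hs.1, hs.2.1, hs.2.1]

/-- The block embedding. -/
def emb (M : SpecialLinearGroup (Fin 2) F) : Matrix.symplecticGroup (Fin 2) F :=
  ⟨fromBlocks !![M.1 0 0, 0; 0, 1] !![M.1 0 1, 0; 0, 0] !![M.1 1 0, 0; 0, 0] !![M.1 1 1, 0; 0, 1], by
    have hM := M.2
    rw [det_fin_two] at hM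
    rw [mem_symplecticGroup_iff]
    intro u v
    rw [sympForm_eq_sum, sympForm_eq_sum, Fin.sum_univ_two, Fin.sum_univ_two]
    simp [Matrix.mulVec, dotProduct, Fintype.sum_sum_type, Fin.sum_univ_two]
    linear_combination (u (Sum.inr 0) * v (Sum.inl 0) - u (Sum.inl 0) * v (Sum.inr 0)) * hM⟩

theorem emb_apply (M : SpecialLinearGroup (Fin 2) F) (v : V) :
    ((emb M : Matrix (Fin 2 ⊕ Fin 2) (Fin 2 ⊕ Fin 2) F) *ᵥ v) =
      Sum.elim ![M.1 0 0 * v (Sum.inl 0) + M.1 0 1 * v (Sum.inr 0), v (Sum.inl 1)]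
        ![M.1 1 0 * v (Sum.inl 0) + M.1 1 1 * v (Sum.inr 0), v (Sum.inr 1)] := by
  ext i
  rcases i with i | i <;> fin_cases i <;>
    simp [emb, Matrix.mulVec, dotProduct, Fintype.sum_sum_type, Fin.sum_univ_two]

theorem emb_mul (M N : SpecialLinearGroup (Fin 2) F) : emb (M * N) = emb M * emb N := by
  apply Subtype.ext
  apply Matrix.mulVec_injective
  funext v
  rw [Submonoid.coe_mul, ← Matrix.mulVec_mulVec, emb_apply, emb_apply, emb_apply]
  ext i
  rcases i with i | i <;> fin_cases i <;>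
    simp [Matrix.mul_apply, Fin.sum_univ_two] <;> ring

theorem emb_one : emb (1 : SpecialLinearGroup (Fin 2) F) = 1 := by
  apply Subtype.ext
  apply Matrix.mulVec_injective
  funext v
  rw [emb_apply, Submonoid.coe_one, Matrix.one_mulVec]
  ext i
  rcases i with i | i <;> fin_cases i <;> simp

theorem emb_pow (M : SpecialLinearGroup (Fin 2) F) (n : ℕ) : emb (M ^ n) = emb M ^ n := by
  induction n with
  | zero => rw [pow_zero, pow_zero, emb_one]
  | succ n ih => rw [pow_succ, pow_succ, emb_mul, ih]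

/-- The quadratic form without zeros. -/
def Ani (M : SpecialLinearGroup (Fin 2) F) : Prop :=
  ∀ x y : F, y * (M.1 0 0 * x + M.1 0 1 * y) - x * (M.1 1 0 * x + M.1 1 1 * y) = 0 → x = 0 ∧ y = 0

theorem not_lag {M : SpecialLinearGroup (Fin 2) F} (h : Ani M) : ¬ Lag (rho 2 F (emb M)) := by
  rintro ⟨u, v, hu, hv, h0, ⟨a, b, h1⟩, c, d, h2⟩
  rw [rho_apply] at h1 h2
  -- elements of the Lagrangian in the first plane vanish
  have key : ∀ s t : F, (s • u + t • v) (Sum.inl 1) = 0 → (s • u + t • v) (Sum.inr 1) = 0 → s • u + t • v = 0 := by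
    intro s t h3 h4
    obtain ⟨x, hx⟩ : ∃ x, x = s • u + t • v := ⟨_, rfl⟩
    rw [← hx] at h3 h4 ⊢
    have h5 : sympForm 2 F x ((emb M : Matrix (Fin 2 ⊕ Fin 2) (Fin 2 ⊕ Fin 2) F) *ᵥ x) = 0 := by
      rw [hx, Matrix.mulVec_add, Matrix.mulVec_smul, Matrix.mulVec_smul, h1, h2]
      simp only [sympForm_add_left, sympForm_add_right, sympForm_smul_left, sympForm_smul_right, sympForm_self,
        h0, sympForm_swap v u, neg_zero, mul_zero, add_zero]
    rw [emb_apply, sympForm_eq_sum, Fin.sum_univ_two] at h5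
    simp only [Sum.elim_inl, Sum.elim_inr, Matrix.cons_val_zero, Matrix.cons_val_one, h3, h4] at h5
    obtain ⟨h6, h7⟩ := h (x (Sum.inl 0)) (x (Sum.inr 0)) (by linear_combination h5)
    ext i
    rcases i with i | i <;> fin_cases i
    · exact h6
    · exact h3
    · exact h7
    · exact h4
  -- the first coordinates of a vector fixed modulo the Lagrangian
  have key2 : ∀ w : V, ((emb M : Matrix (Fin 2 ⊕ Fin 2) (Fin 2 ⊕ Fin 2) F) *ᵥ w) - w = 0 →
      w (Sum.inl 0) = 0 ∧ w (Sum.inr 0) = 0 := by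
    intro w hw
    have h3 := congrFun hw (Sum.inl 0)
    have h4 := congrFun hw (Sum.inr 0)
    rw [emb_apply] at h3 h4
    simp only [Pi.sub_apply, Sum.elim_inl, Sum.elim_inr, Matrix.cons_val_zero, Pi.zero_apply] at h3 h4
    exact h _ _ (by linear_combination (w (Sum.inr 0)) * h3 - (w (Sum.inl 0)) * h4)
  have hNu : ((emb M : Matrix (Fin 2 ⊕ Fin 2) (Fin 2 ⊕ Fin 2) F) *ᵥ u) - u = (a - 1) • u + b • v := by
    rw [h1, sub_smul, one_smul]; abel
  have hNv : ((emb M : Matrix (Fin 2 ⊕ Fin 2) (Fin 2 ⊕ Fin 2) F) *ᵥ v) - v = c • u + (d - 1) • v := by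
    rw [h2, sub_smul, one_smul]; abel
  have hz : ∀ w : V, (((emb M : Matrix (Fin 2 ⊕ Fin 2) (Fin 2 ⊕ Fin 2) F) *ᵥ w) - w) (Sum.inl 1) = 0 ∧
      (((emb M : Matrix (Fin 2 ⊕ Fin 2) (Fin 2 ⊕ Fin 2) F) *ᵥ w) - w) (Sum.inr 1) = 0 := by
    intro w
    rw [emb_apply]
    constructor <;> simp
  have hu0 := key2 u (by
    rw [hNu]
    exact key _ _ (by rw [← hNu]; exact (hz u).1) (by rw [← hNu]; exact (hz u).2))
  have hv0 := key2 v (by
    rw [hNv]
    exact key _ _ (by rw [← hNv]; exact (hz v).1) (by rw [← hNv]; exact (hz v).2))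
  rw [sympForm_eq_sum, Fin.sum_univ_two, hu0.1, hu0.2, zero_mul, zero_mul, sub_zero, zero_add] at h0
  -- `u`, `v` are proportional
  by_cases hu1 : u (Sum.inl 1) = 0
  · have hu2 : u (Sum.inr 1) ≠ 0 := by
      intro hu2
      apply hu
      ext i
      rcases i with i | i <;> fin_cases i
      · exact hu0.1
      · exact hu1
      · exact hu0.2
      · exact hu2
    apply hv (v (Sum.inr 1) / u (Sum.inr 1))
    rw [hu1, zero_mul, sub_zero] at h0
    have hv1 : v (Sum.inl 1) = 0 := (mul_eq_zero.1 h0).resolve_left hu2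
    ext i
    rcases i with i | i <;> fin_cases i
    · change v (Sum.inl 0) = _ * u (Sum.inl 0)
      rw [hu0.1, hv0.1, mul_zero]
    · change v (Sum.inl 1) = _ * u (Sum.inl 1)
      rw [hu1, hv1, mul_zero]
    · change v (Sum.inr 0) = _ * u (Sum.inr 0)
      rw [hu0.2, hv0.2, mul_zero]
    · change v (Sum.inr 1) = _ * u (Sum.inr 1)
      field_simp
  · apply hv (v (Sum.inl 1) / u (Sum.inl 1))
    ext i
    rcases i with i | i <;> fin_cases i
    · change v (Sum.inl 0) = _ * u (Sum.inl 0)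
      rw [hu0.1, hv0.1, mul_zero]
    · change v (Sum.inl 1) = _ * u (Sum.inl 1)
      field_simp
    · change v (Sum.inr 0) = _ * u (Sum.inr 0)
      rw [hu0.2, hv0.2, mul_zero]
    · change v (Sum.inr 1) = _ * u (Sum.inr 1)
      field_simp
      linear_combination -h0

variable [Fintype F]

omit [Fintype F] in
theorem lag_of_mem {A : Matrix.symplecticGroup (Fin 2) F} {W : Submodule F V} (hW : W ∈ (CForm.spF F 2).Om 2)
    (h : W.map ((CForm.spF F 2).iso.subtype (isoSp 2 F A) : V →ₗ[F] V) = W) : Lag (rho 2 F A) := by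
  obtain ⟨hTS, hdim⟩ := hW
  have hmem : ∀ w ∈ W, rho 2 F A w ∈ W := by
    intro w hw
    have h1 : ((CForm.spF F 2).iso.subtype (isoSp 2 F A) : V →ₗ[F] V) w ∈
        W.map ((CForm.spF F 2).iso.subtype (isoSp 2 F A) : V →ₗ[F] V) := Submodule.mem_map_of_mem hw
    rw [h] at h1
    exact h1
  let b : Module.Basis (Fin 2) F W := Module.finBasisOfFinrankEq F W hdim
  have hspan : ∀ w ∈ W, ∃ x y : F, w = x • (b 0 : V) + y • (b 1 : V) := by
    intro w hw
    have h1 := b.sum_repr ⟨w, hw⟩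
    rw [Fin.sum_univ_two] at h1
    exact ⟨_, _, (congrArg Subtype.val h1).symm⟩
  refine ⟨b 0, b 1, ?_, fun c hc => ?_, ?_, hspan _ (hmem _ (b 0).2), hspan _ (hmem _ (b 1).2)⟩
  · intro h0
    exact b.ne_zero 0 (Subtype.ext h0)
  · have h1 : b 1 = c • b 0 := Subtype.ext hc
    have h2 := congrArg (fun w => b.repr w 1) h1
    simp at h2
  · have h1 := hTS.2 _ (b 0).2 _ (b 1).2
    rw [CForm.spF_B] at h1
    rw [sympForm_eq_sum, Finset.sum_sub_distrib]
    linear_combination -h1

/-- The character. -/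
theorem exists_theta (hq : 4 ≤ Fintype.card F) : ∃ θ : IrrCharacter (PSp 2 F),
    ∀ A : Matrix.symplecticGroup (Fin 2) F, ¬ Lag (rho 2 F A) → (θ : PSp 2 F → ℂ) (QuotientGroup.mk A) = 0 := by
  classical
  obtain ⟨p, hp⟩ := CharP.exists F
  have hpr : p.Prime := (CharP.char_is_prime_or_zero F p).resolve_right (CharP.char_ne_zero_of_finite F p)
  have : Fact p.Prime := ⟨hpr⟩
  obtain ⟨c, hc⟩ := exists_cus_sq F rfl 2 (by norm_num) (fun h => by rw [Nat.card_eq_fintype_card] at h; omega)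
    (fun h => by rw [Nat.card_eq_fintype_card] at h; omega) (fun _ => le_rfl)
  obtain ⟨⟨W₀, hW₀⟩, -⟩ := CForm.spF_frame (K := F) (p := p) 2 0
  have := finite_Om (CForm.spF F 2) 2
  have := finite_iso (CForm.spF F 2)
  let _ := Fintype.ofFinite ((CForm.spF F 2).Om 2)
  let _ := Fintype.ofFinite (CForm.spF F 2).iso
  have hcl := Core.isIrr_isClassFunction hc.irr
  have hχ := (CForm.spF F 2).isIrr_hc_one hc.irr hc.cusp hc.dual hW₀
  have hfin : Finite (Matrix.symplecticGroup (Fin 2) F) := inferInstance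
  have hχ' : IsIrrCharacter _ ((CForm.spF F 2).hc c (fun _ _ => 1) ∘ (isoSp 2 F).toMonoidHom) :=
    Core.isIrr_comp (isoSp 2 F).toMonoidHom (isoSp 2 F).surjective hχ
  obtain ⟨η, hη, hη'⟩ := exists_quot (Subgroup.center (Matrix.symplecticGroup (Fin 2) F)) hχ' (fun z hz => by
    change (CForm.spF F 2).hc c (fun _ _ => 1) (isoSp 2 F z) = (CForm.spF F 2).hc c (fun _ _ => 1) (isoSp 2 F 1)
    rw [map_one]
    rcases Cfsg.Agent.ClassicalGeometry.SympInvolutions.center_eq hz with h | h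
    · refine (CForm.spF F 2).hc_scalar hcl (fun _ _ => 1) (a := 1) (fun v => ?_) (hc.scal 1 (one_pow 2))
        (fun _ _ => rfl)
      rw [isoSp_apply, h, Matrix.one_mulVec, Units.val_one, one_smul]
    · refine (CForm.spF F 2).hc_scalar hcl (fun _ _ => 1) (a := -1) (fun v => ?_) (hc.scal (-1) neg_one_sq)
        (fun _ _ => rfl)
      rw [isoSp_apply, h, Matrix.neg_mulVec, Matrix.one_mulVec, Units.val_neg, Units.val_one, neg_one_smul])
  refine ⟨⟨η, hη⟩, fun A hA => ?_⟩
  change η (QuotientGroup.mk A) = 0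
  rw [hη' A]
  change (CForm.spF F 2).hc c (fun _ _ => 1) (isoSp 2 F A) = 0
  unfold CForm.hc
  refine Finset.sum_eq_zero fun W _ => ?_
  unfold Cfsg.Agent.H53.HC.flagTerm
  rw [dif_neg, zero_mul]
  intro h
  exact hA (lag_of_mem W.2 h)

theorem vz (h2 : (2 : F) ≠ 0) (hq : 4 ≤ Fintype.card F) {A : Matrix.symplecticGroup (Fin 2) F}
    (hA : ¬ Lag (rho 2 F A)) : VZ (PSp 2 F) (QuotientGroup.mk A) := by
  obtain ⟨θ, hθ⟩ := exists_theta hq
  refine ⟨θ, fun α => ?_⟩
  obtain ⟨g, rfl⟩ := Cfsg.Agent.H206.PspFix.mem_range_Psi le_rfl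
    (fun _ => by rw [Nat.card_eq_fintype_card]; omega) α (Or.inl (Or.inr h2))
  rw [Psi_mk]
  refine hθ _ fun h => hA ?_
  rw [rho_conjHom] at h
  have h3 := h.conj g⁻¹
  have h4 : (g⁻¹).1 * (g.1 * rho 2 F A * g.1⁻¹) * (g⁻¹).1⁻¹ = rho 2 F A := by
    change g.1⁻¹ * (g.1 * rho 2 F A * g.1⁻¹) * g.1⁻¹⁻¹ = rho 2 F A
    group
  rwa [h4] at h3

/-! ### elements of `SL_2(q)` without eigenvectors -/

omit [Fintype F] in
theorem emb_injective : Function.Injective (emb (F := F)) := by
  intro M N h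
  have h1 : ∀ v : V, ((emb M : Matrix (Fin 2 ⊕ Fin 2) (Fin 2 ⊕ Fin 2) F) *ᵥ v) =
      ((emb N : Matrix (Fin 2 ⊕ Fin 2) (Fin 2 ⊕ Fin 2) F) *ᵥ v) := fun v => by rw [h]
  have h2 := h1 (Pi.single (Sum.inl 0) 1)
  have h3 := h1 (Pi.single (Sum.inr 0) 1)
  rw [emb_apply, emb_apply] at h2 h3
  ext i j
  fin_cases i <;> fin_cases j
  · simpa using congrFun h2 (Sum.inl 0)
  · simpa using congrFun h3 (Sum.inl 0)
  · simpa using congrFun h2 (Sum.inr 0)
  · simpa using congrFun h3 (Sum.inr 0)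

omit [Fintype F] in
theorem orderOf_mk (h2 : (2 : F) ≠ 0) (M : SpecialLinearGroup (Fin 2) F) :
    orderOf (QuotientGroup.mk (emb M) : PSp 2 F) = orderOf M := by
  rw [orderOf_eq_orderOf_iff]
  intro n
  rw [← QuotientGroup.mk_pow, ← emb_pow]
  constructor
  · intro h
    rw [QuotientGroup.eq_one_iff] at h
    rcases Cfsg.Agent.ClassicalGeometry.SympInvolutions.center_eq h with h1 | h1
    · exact emb_injective (by rw [emb_one]; exact Subtype.ext h1)
    · exfalso
      have h3 := emb_apply (M ^ n) (Pi.single (Sum.inl 1) 1)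
      rw [h1, Matrix.neg_mulVec, Matrix.one_mulVec] at h3
      have h4 := congrFun h3 (Sum.inl 1)
      simp at h4
      apply h2
      linear_combination -h4
  · intro h
    rw [h, emb_one]
    rfl

omit [Fintype F] in
theorem pow_formula {M : Matrix (Fin 2) (Fin 2) F} {a b : F} (h : M * M = (a + b) • M - (a * b) • 1) (k : ℕ) :
    (a - b) • M ^ (k + 1) = (a ^ (k + 1) - b ^ (k + 1)) • M - (a * b * (a ^ k - b ^ k)) • 1 := by
  induction k with
  | zero => simp
  | succ k ih =>
    have e1 : (a - b) • M ^ (k + 1 + 1) = M * ((a - b) • M ^ (k + 1)) := by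
      rw [pow_succ' M (k + 1), Matrix.mul_smul]
    rw [e1, ih, Matrix.mul_sub, Matrix.mul_smul, h, Matrix.mul_smul, Matrix.mul_one]
    ext i j
    simp only [Matrix.sub_apply, Matrix.smul_apply, smul_eq_mul]
    ring

omit [Fintype F] in
theorem pow_formula' {M : Matrix (Fin 2) (Fin 2) F} {a : F} (h : M * M = (a + a) • M - (a * a) • 1) (k : ℕ) :
    M ^ (k + 1) = ((k + 1 : ℕ) * a ^ k) • M - ((k : ℕ) * a ^ (k + 1)) • 1 := by
  induction k with
  | zero => simp
  | succ k ih =>
    rw [pow_succ' M (k + 1), ih, Matrix.mul_sub, Matrix.mul_smul, h, Matrix.mul_smul, Matrix.mul_one]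
    ext i j
    simp only [Matrix.sub_apply, Matrix.smul_apply, smul_eq_mul]
    push_cast
    ring

theorem ani_of_order {p : ℕ} [hp : Fact p.Prime] [CharP F p] {M : SpecialLinearGroup (Fin 2) F}
    (h1 : ¬ orderOf M ∣ Fintype.card F - 1) (h2 : ¬ orderOf M ∣ 2 * p) : Ani M := by
  intro x y hxy
  by_contra hcon
  have hdet := M.2
  rw [det_fin_two] at hdet
  -- an eigenvalue
  obtain ⟨a, ha1, ha2⟩ : ∃ a : F, M.1 0 0 * x + M.1 0 1 * y = a * x ∧ M.1 1 0 * x + M.1 1 1 * y = a * y := by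
    by_cases hx : x = 0
    · have hy : y ≠ 0 := fun hy => hcon ⟨hx, hy⟩
      subst hx
      have h3 : M.1 0 1 = 0 := by
        have : y * y * M.1 0 1 = 0 := by linear_combination hxy
        exact (mul_eq_zero.1 this).resolve_left (mul_ne_zero hy hy)
      exact ⟨M.1 1 1, by rw [h3]; ring, by ring⟩
    · refine ⟨(M.1 0 0 * x + M.1 0 1 * y) / x, by field_simp, ?_⟩
      field_simp
      linear_combination -hxy
  have hchar : a * a - (M.1 0 0 + M.1 1 1) * a + 1 = 0 := by
    by_cases hx : x = 0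
    · have hy : y ≠ 0 := fun hy => hcon ⟨hx, hy⟩
      subst hx
      have h3 : M.1 0 1 = 0 := by
        have : y * M.1 0 1 = 0 := by linear_combination ha1
        exact (mul_eq_zero.1 this).resolve_left hy
      have h4 : M.1 1 1 = a := by
        have : y * (M.1 1 1 - a) = 0 := by linear_combination ha2
        exact sub_eq_zero.1 ((mul_eq_zero.1 this).resolve_left hy)
      rw [h3, h4] at hdet
      rw [h4]
      linear_combination -hdet
    · have : x * (a * a - (M.1 0 0 + M.1 1 1) * a + 1) = 0 := by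
        linear_combination (M.1 1 1 - a) * ha1 - M.1 0 1 * ha2 - x * hdet
      exact (mul_eq_zero.1 this).resolve_left hx
  have ha0 : a ≠ 0 := by
    rintro rfl
    simp at hchar
  obtain ⟨b, hb⟩ : ∃ b, b = a⁻¹ := ⟨_, rfl⟩
  have hab : a * b = 1 := by rw [hb, mul_inv_cancel₀ ha0]
  have hb0 : b ≠ 0 := by rw [hb]; exact inv_ne_zero ha0
  have htr : M.1 0 0 + M.1 1 1 = a + b := by
    have h3 : a * (M.1 0 0 + M.1 1 1 - (a + b)) = 0 := by linear_combination -hchar - hab
    exact sub_eq_zero.1 ((mul_eq_zero.1 h3).resolve_left ha0)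
  have hCH : M.1 * M.1 = (a + b) • M.1 - (a * b) • (1 : Matrix (Fin 2) (Fin 2) F) := by
    rw [hab, ← htr]
    ext i j
    fin_cases i <;> fin_cases j <;>
      simp [Matrix.mul_apply, Fin.sum_univ_two] <;>
      first
        | linear_combination (0 : F) * hdet
        | linear_combination -hdet
  have hq : 2 ≤ Fintype.card F := Fintype.one_lt_card
  by_cases hne : a = b
  · subst hne
    apply h2
    rw [orderOf_dvd_iff_pow_eq_one]
    apply Subtype.ext
    obtain ⟨k, hk⟩ : ∃ k, p = k + 1 := ⟨p - 1, by have := hp.out.one_lt; omega⟩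
    have h3 := pow_formula' hCH k
    rw [← hk, CharP.cast_eq_zero, zero_mul, zero_smul, zero_sub] at h3
    have h4 : (k : F) = -1 := by
      have h5 : ((k + 1 : ℕ) : F) = 0 := by rw [← hk]; exact CharP.cast_eq_zero F p
      push_cast at h5
      linear_combination h5
    rw [h4, neg_one_mul, neg_smul, neg_neg] at h3
    have h7 : M.1 ^ (2 * p) = 1 := by
      rw [mul_comm 2 p, pow_mul, h3, smul_pow, one_pow, ← pow_mul, mul_comm p 2, pow_mul, sq a, hab, one_pow,
        one_smul]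
    exact h7
  · apply h1
    rw [orderOf_dvd_iff_pow_eq_one]
    apply Subtype.ext
    have h3 := pow_formula hCH (Fintype.card F - 2)
    have e1 : Fintype.card F - 2 + 1 = Fintype.card F - 1 := by omega
    have e2 := FiniteField.pow_card_sub_one_eq_one a ha0
    have e3 := FiniteField.pow_card_sub_one_eq_one b hb0
    have e4 : a * b * (a ^ (Fintype.card F - 2) - b ^ (Fintype.card F - 2)) = b - a := by
      have e5 : a * a ^ (Fintype.card F - 2) = 1 := by rw [← pow_succ', e1, e2]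
      have e6 : b * b ^ (Fintype.card F - 2) = 1 := by rw [← pow_succ', e1, e3]
      linear_combination b * e5 - a * e6
    rw [e1, e2, e3, e4, sub_self, zero_smul, zero_sub, ← neg_smul, neg_sub] at h3
    have h5 : a - b ≠ 0 := sub_ne_zero.2 hne
    have h6 : M.1 ^ (Fintype.card F - 1) = 1 := smul_right_injective _ h5 h3
    exact h6

/-- An element without eigenvectors whose order is an odd prime or four and divides `q + 1`. -/
theorem exists_ani (h2 : (2 : F) ≠ 0) : ∃ M : SpecialLinearGroup (Fin 2) F, Ani M ∧ orderOf M ∣ Fintype.card F + 1 ∧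
    orderOf M ≠ 1 ∧ orderOf M ≠ 2 := by
  classical
  obtain ⟨p, hp⟩ := CharP.exists F
  have hpr : p.Prime := (CharP.char_is_prime_or_zero F p).resolve_right (CharP.char_ne_zero_of_finite F p)
  have : Fact p.Prime := ⟨hpr⟩
  have hp2 : p ≠ 2 := by
    rintro rfl
    exact h2 (CharP.cast_eq_zero F 2)
  have hpq : p ∣ Fintype.card F := by
    rw [← CharP.cast_eq_zero_iff F p]
    exact FiniteField.cast_card_eq_zero F
  have hodd : Odd (Fintype.card F) := by
    rw [← Nat.not_even_iff_odd]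
    intro he
    obtain ⟨n, hn, hc⟩ := FiniteField.card F p
    rw [hc] at he
    exact hp2 ((Nat.prime_dvd_prime_iff_eq Nat.prime_two hpr).1 (Nat.prime_two.dvd_of_dvd_pow he.two_dvd)).symm
  have hq : 3 ≤ Fintype.card F := by
    have : 1 < Fintype.card F := Fintype.one_lt_card
    obtain ⟨k, hk⟩ := hodd
    omega
  have hpn : ¬ p ∣ Fintype.card F + 1 := by
    intro h
    have := (Nat.dvd_add_right hpq).1 h
    exact hpr.one_lt.ne' (Nat.dvd_one.1 this)
  have key : ∀ {M : SpecialLinearGroup (Fin 2) F}, orderOf M ∣ Fintype.card F + 1 → orderOf M ≠ 1 → orderOf M ≠ 2 →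
      Ani M := by
    intro M h3 h4 h5
    refine ani_of_order (p := p) (fun h6 => ?_) (fun h6 => ?_)
    · have h7 := Nat.dvd_sub h3 h6
      have h8 : Fintype.card F + 1 - (Fintype.card F - 1) = 2 := by omega
      rw [h8] at h7
      rcases (Nat.dvd_prime Nat.prime_two).1 h7 with h9 | h9
      · exact h4 h9
      · exact h5 h9
    · have h7 : (orderOf M).Coprime p := by
        rw [Nat.coprime_comm, Nat.Prime.coprime_iff_not_dvd hpr]
        exact fun h => hpn (h.trans h3)
      rcases (Nat.dvd_prime Nat.prime_two).1 (h7.dvd_of_dvd_mul_right h6) with h9 | h9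
      · exact h4 h9
      · exact h5 h9
  by_cases h : ∃ l, l.Prime ∧ l ≠ 2 ∧ l ∣ Fintype.card F + 1
  · obtain ⟨l, hl, hl2, hd⟩ := h
    have : Fact l.Prime := ⟨hl⟩
    have h3 : l ∣ Nat.card (SpecialLinearGroup (Fin 2) F) := by
      rw [ClassicalGeometry.PSL2Basic.card_SL2 F]
      refine Dvd.dvd.mul_left ?_ _
      rw [← one_pow 2, Nat.sq_sub_sq]
      exact hd.mul_right _
    obtain ⟨M, hM⟩ := exists_prime_orderOf_dvd_card' l h3
    have h4 : orderOf M ∣ Fintype.card F + 1 := by rwa [hM]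
    have h5 : orderOf M ≠ 1 := by rw [hM]; exact hl.one_lt.ne'
    have h6 : orderOf M ≠ 2 := by rwa [hM]
    exact ⟨M, key h4 h5 h6, h4, h5, h6⟩
  · push Not at h
    have h4 : 4 ∣ Fintype.card F + 1 := by
      have h3 : Fintype.card F + 1 = 2 ^ (Fintype.card F + 1).primeFactorsList.length :=
        Nat.eq_prime_pow_of_unique_prime_dvd (by omega) fun {d} hd h5 => by
          by_contra h6
          exact h d hd h6 h5
      rcases Nat.lt_or_ge (Fintype.card F + 1).primeFactorsList.length 2 with h5 | h5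
      · exfalso
        have h6 : 2 ^ (Fintype.card F + 1).primeFactorsList.length ≤ 2 ^ 1 :=
          Nat.pow_le_pow_right (by norm_num) (by omega)
        omega
      · rw [h3]
        exact pow_dvd_pow 2 h5
    let M : SpecialLinearGroup (Fin 2) F := ⟨!![0, -1; 1, 0], by simp [det_fin_two]⟩
    have hM2 : (M ^ 2).1 = -1 := by
      change (!![0, -1; 1, 0] : Matrix (Fin 2) (Fin 2) F) ^ 2 = -1
      rw [sq]
      ext i j
      fin_cases i <;> fin_cases j <;> simp
    have h5 : orderOf M = 2 ^ 2 := by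
      refine orderOf_eq_prime_pow ?_ ?_
      · intro h6
        rw [pow_one] at h6
        rw [h6] at hM2
        have h7 := congrFun (congrFun hM2 0) 0
        simp at h7
        apply h2
        linear_combination h7
      · apply Subtype.ext
        have h6 : M ^ (2 ^ (1 + 1)) = M ^ 2 * M ^ 2 := by
          rw [← pow_add]
          norm_num
        rw [h6]
        change (M ^ 2).1 * (M ^ 2).1 = 1
        rw [hM2]
        simp
    refine ⟨M, key ?_ ?_ ?_, ?_, ?_, ?_⟩ <;> rw [h5] <;> first | exact h4 | norm_num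

end

/-- `PSp_4(q)`, `q` odd, `q ≥ 5`. -/
theorem tri {F : Type} [Field F] [Fintype F] {p : ℕ} [hp : Fact p.Prime] [CharP F p] (h2 : (2 : F) ≠ 0)
    (hq : 4 ≤ Fintype.card F) (hkp : Kill (PSp 2 F) p) : Tri (PSp 2 F) := by
  have hpq : p ∣ Fintype.card F := by
    rw [← CharP.cast_eq_zero_iff F p]
    exact FiniteField.cast_card_eq_zero F
  obtain ⟨M, hM, hM1, hM2, hM3⟩ := exists_ani h2
  obtain ⟨l, hl⟩ := exists_prm (q := Fintype.card F) (e := 4) (by omega) (by norm_num) (by norm_num) (by norm_num)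
  have hl' : Prm (Nat.card F) l 4 := by rwa [Nat.card_eq_fintype_card]
  have := Fact.mk hl.prime
  have hcard := RowSp.card_pos' (F := F) (m := 2) (by norm_num)
  have hkl : Kill (PSp 2 F) l := by
    refine kill_psp F (p := p) (k := 2) (n := 0) (by norm_num)
      (exists_cus_sq F rfl 2 (by norm_num) (fun h => by rw [Nat.card_eq_fintype_card] at h; omega)
        (fun h => by rw [Nat.card_eq_fintype_card] at h; omega) (fun _ => le_rfl)) hl.prime hl'.ne_char ?_ ?_
    · rw [hl'.iff]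
      norm_num
    · rw [card_spF_zero]
      exact hl.prime.one_lt.ne' ∘ Nat.dvd_one.1
  have hld : l ∣ Nat.card (PSp 2 F) := by
    have h3 : l ∣ Nat.gcd 2 (Fintype.card F - 1) * Nat.card (PSp 2 F) := by
      rw [hcard]
      exact Dvd.dvd.mul_left (dvd_prod hl (i := 2) (by norm_num) (by norm_num) (by norm_num)) _
    refine (hl.prime.dvd_mul.1 h3).resolve_left fun h4 => ?_
    exact hl.not_dvd_two (by norm_num) (h4.trans (Nat.gcd_dvd_left _ _))
  have hp2 : p ≠ 2 := by
    rintro rfl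
    exact h2 (CharP.cast_eq_zero F 2)
  have hpd : p ∣ Nat.card (PSp 2 F) := by
    have h3 : p ∣ Nat.gcd 2 (Fintype.card F - 1) * Nat.card (PSp 2 F) := by
      rw [hcard]
      exact (dvd_pow hpq (by norm_num)).mul_right _
    refine (hp.out.dvd_mul.1 h3).resolve_left fun h4 => ?_
    exact hp2 ((Nat.prime_dvd_prime_iff_eq hp.out Nat.prime_two).1 (h4.trans (Nat.gcd_dvd_left _ _)))
  obtain ⟨x, hx⟩ := exists_prime_orderOf_dvd_card' p hpd
  obtain ⟨y, hy⟩ := exists_prime_orderOf_dvd_card' l hld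
  refine ⟨x, y, QuotientGroup.mk (emb M), hkp.vz (by rw [hx]), hkl.vz (by rw [hy]), vz h2 hq (not_lag hM), ?_, ?_, ?_⟩
  · rw [hx, hy]
    exact (Nat.coprime_primes hp.out hl.prime).2 hl'.ne_char.symm
  · rw [hx, orderOf_mk h2, Nat.Prime.coprime_iff_not_dvd hp.out]
    intro h3
    have h4 := (Nat.dvd_add_right hpq).1 (h3.trans hM1)
    exact hp.out.one_lt.ne' (Nat.dvd_one.1 h4)
  · rw [hy, orderOf_mk h2, Nat.Prime.coprime_iff_not_dvd hl.prime]
    exact fun h3 => hl.not_dvd_add (by norm_num) (h3.trans hM1)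

end Cfsg.Agent.H695.Lie.PSpFour
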