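import Cfsg.Agent.H695.Lie.RankOne
import Cfsg.Agent.H695.Lie.PSpFour
import Cfsg.Agent.H664.R1.U3Iso
import Cfsg.Agent.H620.RowSU
import Cfsg.Agent.H277.ClsPsu

/-!
# `PSU_3(q)` (helper695)

An element with eigenvalues `1, a, a⁻¹`, `a^(q+1) = 1`, `a ≠ a⁻¹`, fixes no isotropic point; the principal series
vanishes on it.
-/

set_option autoImplicit false
set_option linter.unusedSectionVars false

open Cfsg

namespace Cfsg.Agent.H695.Lie.PSUThree

open Cfsg.Agent.H664.R1 Cfsg.Agent.H664.R1.Split Cfsg.Agent.H664.R1.U3 Cfsg.Agent.Characters.Core Cfsg.Agent.H713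
open Cfsg.Agent.LieRecognition.PSUThreeSylow Cfsg.Agent.LieClassical.HermBasic Matrix

section

variable {F : Type} [Field F] {σ : F →+* F} [hσ : Fact (∀ x, σ (σ x) = x)]

/-- The matrix. -/
def wm (η τ : F) : Matrix (Fin 3) (Fin 3) F := !![0, 0, -η; 0, 1, 0; η⁻¹, 0, τ]

theorem wm_form {η τ : F} (hη : η ≠ 0) (h1 : σ η = -η) (h2 : σ τ = τ) :
    (wm η τ)ᵀ * Jm F * (wm η τ).map σ = Jm F := by
  ext i j
  fin_cases i <;> fin_cases j <;>
    simp [wm, Jm, Matrix.mul_apply, Fin.sum_univ_three, h1, h2, hη, mul_comm]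

theorem wm_det {η τ : F} (hη : η ≠ 0) : (wm η τ).det = 1 := by
  simp [wm, Matrix.det_fin_three, hη]

/-- The element. -/
def we {η τ : F} (hη : η ≠ 0) (h1 : σ η = -η) (h2 : σ τ = τ) : GUJ σ :=
  mk (wm η τ) (wm_form hη h1 h2)

theorem mat_we {η τ : F} (hη : η ≠ 0) (h1 : σ η = -η) (h2 : σ τ = τ) : mat σ (we hη h1 h2) = wm η τ := rfl

/-- The three-dimensional block embedding. -/
def E3 (M : Matrix (Fin 2) (Fin 2) F) : Matrix (Fin 3) (Fin 3) F := !![M 0 0, 0, M 0 1; 0, 1, 0; M 1 0, 0, M 1 1]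

omit hσ in
theorem E3_mul (M N : Matrix (Fin 2) (Fin 2) F) : E3 (M * N) = E3 M * E3 N := by
  ext i j
  fin_cases i <;> fin_cases j <;> simp [E3, Matrix.mul_apply, Fin.sum_univ_three, Fin.sum_univ_two]

omit hσ in
theorem E3_one : E3 (1 : Matrix (Fin 2) (Fin 2) F) = 1 := by
  ext i j
  fin_cases i <;> fin_cases j <;> simp [E3]

omit hσ in
theorem E3_pow (M : Matrix (Fin 2) (Fin 2) F) (n : ℕ) : E3 (M ^ n) = E3 M ^ n := by
  induction n with
  | zero => rw [pow_zero, pow_zero, E3_one]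
  | succ n ih => rw [pow_succ, pow_succ, E3_mul, ih]

omit hσ in
theorem wm_pow {η a b : F} (hη : η ≠ 0) (hab : a * b = 1) (hne : a ≠ b) {n : ℕ} (ha : a ^ (n + 1) = 1)
    (hb : b ^ (n + 1) = 1) : wm η (a + b) ^ (n + 1) = 1 := by
  have h1 : wm η (a + b) = E3 !![0, -η; η⁻¹, a + b] := by
    ext i j
    fin_cases i <;> fin_cases j <;> simp [wm, E3]
  have h2 : (!![0, -η; η⁻¹, a + b] : Matrix (Fin 2) (Fin 2) F) * !![0, -η; η⁻¹, a + b] =
      (a + b) • !![0, -η; η⁻¹, a + b] - (a * b) • 1 := by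
    rw [hab]
    ext i j
    fin_cases i <;> fin_cases j <;> simp [Matrix.mul_apply, Fin.sum_univ_two, hη] <;> ring
  have h3 := Cfsg.Agent.H695.Lie.PSpFour.pow_formula h2 n
  have h4 : a * b * (a ^ n - b ^ n) = b - a := by
    have e1 : a * a ^ n = 1 := by rw [← pow_succ', ha]
    have e2 : b * b ^ n = 1 := by rw [← pow_succ', hb]
    linear_combination b * e1 - a * e2
  rw [ha, hb, h4, sub_self, zero_smul, zero_sub, ← neg_smul, neg_sub] at h3
  have h5 : (!![0, -η; η⁻¹, a + b] : Matrix (Fin 2) (Fin 2) F) ^ (n + 1) = 1 :=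
    smul_right_injective _ (sub_ne_zero.2 hne) h3
  rw [h1, ← E3_pow, h5, E3_one]

/-- No isotropic eigenvector. -/
theorem no_eigen {η τ t x y z : F} (hη : η ≠ 0) (h1 : σ η = -η) (h2 : σ τ = τ)
    (hτ : ∀ t : F, σ t = t → t * t - τ * t + 1 ≠ 0) (hx : -η * z = t * x) (hy : y = t * y)
    (hz : η⁻¹ * x + τ * z = t * z) (hiso : x * σ z + y * σ y + z * σ x = 0) : x = 0 ∧ y = 0 ∧ z = 0 := by
  have hx' : x = η * (t - τ) * z := by
    have : η * (η⁻¹ * x + τ * z) = η * (t * z) := by rw [hz]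
    rw [mul_add, ← mul_assoc, mul_inv_cancel₀ hη, one_mul] at this
    linear_combination this
  have hq : η * z * (t * t - τ * t + 1) = 0 := by
    rw [hx'] at hx
    linear_combination -hx
  by_cases hz0 : z = 0
  · have hx0 : x = 0 := by rw [hx', hz0, mul_zero]
    refine ⟨hx0, ?_, hz0⟩
    have h5 : y * σ y = 0 := by
      rw [hx0, hz0] at hiso
      linear_combination hiso
    rcases mul_eq_zero.1 h5 with h | h
    · exact h
    · exact (map_eq_zero σ).1 h
  · exfalso
    have h3 : t * t - τ * t + 1 = 0 := (mul_eq_zero.1 hq).resolve_left (mul_ne_zero hη hz0)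
    have ht1 : t ≠ 1 := by
      rintro rfl
      exact hτ 1 (map_one σ) h3
    have hy0 : y = 0 := by
      have : y * (t - 1) = 0 := by linear_combination -hy
      exact (mul_eq_zero.1 this).resolve_right (sub_ne_zero.2 ht1)
    have h4 : σ x = -η * (σ t - τ) * σ z := by rw [hx', map_mul, map_mul, h1, map_sub, h2]
    have h5 : η * (z * σ z) * (t - σ t) = 0 := by
      linear_combination hiso - (σ z) * hx' - z * h4 - (σ y) * hy0
    have h6 : t - σ t = 0 := (mul_eq_zero.1 h5).resolve_left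
      (mul_ne_zero hη (mul_ne_zero hz0 ((map_ne_zero σ).2 hz0)))
    exact hτ t (sub_eq_zero.1 h6).symm h3

/-- The element is in no Borel subgroup. -/
theorem not_mem {η τ : F} (hη : η ≠ 0) (h1 : σ η = -η) (h2 : σ τ = τ)
    (hτ : ∀ t : F, σ t = t → t * t - τ * t + 1 ≠ 0) (hS : pr σ (we hη h1 h2) ∈ S σ) (g : S σ) :
    g⁻¹ * ⟨pr σ (we hη h1 h2), hS⟩ * g ∉ (spS σ).B := by
  intro h
  obtain ⟨g, hg⟩ := g
  obtain ⟨k, hk⟩ := QuotientGroup.mk_surjective g
  have h3 : g⁻¹ * pr σ (we hη h1 h2) * g ∈ (spP σ).B := h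
  have h4 : pr σ (k⁻¹ * we hη h1 h2 * k) ∈ (Bo σ).map (pr σ) := by
    rw [map_mul, map_mul, map_inv]
    have : pr σ k = g := hk
    rw [this]
    exact h3
  obtain ⟨b, hb, hbk⟩ := h4
  have h5 : b⁻¹ * (k⁻¹ * we hη h1 h2 * k) ∈ Sc σ := QuotientGroup.eq.1 hbk
  have h6 : k⁻¹ * we hη h1 h2 * k ∈ Bo σ := by
    have h7 := (Bo σ).mul_mem hb ((Sc_le h5).1 : b⁻¹ * (k⁻¹ * we hη h1 h2 * k) ∈ Bo σ)
    rwa [mul_inv_cancel_left] at h7
  obtain ⟨c, hc⟩ : ∃ c, c = k⁻¹ * we hη h1 h2 * k := ⟨_, rfl⟩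
  rw [← hc] at h6
  obtain ⟨h7, h8, h9⟩ := h6
  -- the first column of `k`
  have h10 : we hη h1 h2 * k = k * c := by rw [hc]; group
  have e : ∀ i, mat σ (we hη h1 h2 * k) i 0 = mat σ k i 0 * mat σ c 0 0 := by
    intro i
    rw [h10, mul_entry, h7, h8]
    ring
  have e0 := e 0
  have e1 := e 1
  have e2 := e 2
  rw [mul_entry, mat_we] at e0 e1 e2
  have w00 : wm η τ 0 0 = 0 := rfl
  have w01 : wm η τ 0 1 = 0 := rfl
  have w02 : wm η τ 0 2 = -η := rfl
  have w10 : wm η τ 1 0 = 0 := rfl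
  have w11 : wm η τ 1 1 = 1 := rfl
  have w12 : wm η τ 1 2 = 0 := rfl
  have w20 : wm η τ 2 0 = η⁻¹ := rfl
  have w21 : wm η τ 2 1 = 0 := rfl
  have w22 : wm η τ 2 2 = τ := rfl
  rw [w00, w01, w02] at e0
  rw [w10, w11, w12] at e1
  rw [w20, w21, w22] at e2
  have hiso := entry k 0 0
  have hJ : Jm F 0 0 = 0 := by simp [Jm]
  rw [hJ] at hiso
  obtain ⟨hx, hy, hz⟩ := no_eigen (t := mat σ c 0 0) hη h1 h2 hτ (by linear_combination e0)
    (by linear_combination e1) (by linear_combination e2) hiso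
  have h11 := entry k 0 2
  have hJ' : Jm F 0 2 = 1 := by simp [Jm]
  rw [hx, hy, hz, hJ'] at h11
  simp at h11

section finite

variable [Fintype F] {q : ℕ}

/-- The principal series character. -/
theorem exists_ps [Fintype (S σ)] (hF : Fintype.card F = q ^ 2) (hq : 3 ≤ q) (hs : ∀ x, σ x = x ^ q) :
    ∃ f : (spS σ).B →* ℂˣ, IsIrrCharacter (S σ) ((spS σ).ps f) := by
  classical
  -- a norm different from one
  obtain ⟨c, hc, hc0, hc1⟩ : ∃ c : F, c ^ q = c ∧ c ≠ 0 ∧ c ≠ 1 := by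
    by_contra hcon
    push Not at hcon
    have h1 := card_fixed hF
    have h2 : Nat.card {x : F // x ^ q = x} ≤ 2 := by
      have : Function.Injective (fun x : {x : F // x ^ q = x} => decide (x.1 = 0)) := by
        rintro ⟨x, hx⟩ ⟨y, hy⟩ h
        apply Subtype.ext
        by_cases h0 : x = 0
        · have h3 : y = 0 := by
            have : decide (x = 0) = decide (y = 0) := h
            simpa [h0] using this.symm
          show x = y
          rw [h0]; exact h3.symm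
        · have h3 : y ≠ 0 := by
            have : decide (x = 0) = decide (y = 0) := h
            intro h4
            apply h0
            simpa [h4] using this
          show x = y
          rw [hcon x hx h0]
          exact (hcon y hy h3).symm
      have h4 := Nat.card_le_card_of_injective _ this
      simpa using h4
    omega
  obtain ⟨t, ht, htn⟩ := exists_norm_eq_ne hF hc hc0
  rw [← hs] at htn
  obtain ⟨lam, -, hlam⟩ := OddOrderCharacters.PrimeTI.exists_hom_ne_one
    (G := Fˣ) ⟨⟨fun a b => mul_comm a b⟩⟩ ⊥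
    (w := Units.mk0 c hc0) (by
      rw [Subgroup.mem_bot]
      intro h
      exact hc1 (congrArg Units.val h))
  obtain ⟨f, hfU, hf⟩ := exists_lin (σ := σ) lam
  have hrel := dgS_rel (σ := σ) ht
  have h0 : σ t ≠ 0 := (map_ne_zero σ).2 ht
  have hmem : pr σ (dg t (σ t / t) ht hrel) ∈ S σ := ⟨_, dgS_mem t ht hrel, rfl⟩
  have hT : (⟨_, hmem⟩ : S σ) ∈ (spS σ).T := ⟨_, dg_mem _ _ _ _, rfl⟩
  refine ⟨f, (spS σ).isIrr_ps f ⟨⟨_, hmem⟩, hT, ?_⟩⟩
  have e1 := hf t (σ t / t) ht hrel hmem ((spS σ).TB hT)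
  have e2 : ((spS σ).w⁻¹ * ⟨_, hmem⟩ * (spS σ).w : S σ) =
      ⟨pr σ (dg (σ t)⁻¹ (σ t / t) (inv_ne_zero h0) hrel), by
        rw [← w_conj_S t (σ t / t) ht hrel hmem]
        exact ((spS σ).w⁻¹ * ⟨_, hmem⟩ * (spS σ).w).2⟩ :=
    Subtype.ext (w_conj_S t (σ t / t) ht hrel hmem)
  have e3 : f ⟨(spS σ).w⁻¹ * ⟨_, hmem⟩ * (spS σ).w, (spS σ).TB ((spS σ).wT _ hT)⟩ =
      lam (Units.mk0 ((σ t)⁻¹ * σ (σ t / t)) (mul_ne_zero (inv_ne_zero h0) ((map_ne_zero σ).2
        (left_ne_zero_of_mul_eq_one hrel)))) := by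
    rw [← hf (σ t)⁻¹ (σ t / t) (inv_ne_zero h0) hrel (by
        rw [← w_conj_S t (σ t / t) ht hrel hmem]
        exact ((spS σ).w⁻¹ * ⟨_, hmem⟩ * (spS σ).w).2) ⟨_, (dg_mem _ _ _ _).1, rfl⟩]
    congr 1
    exact Subtype.ext e2
  rw [e1, e3]
  intro h
  apply hlam
  have h1 : Units.mk0 c hc0 = Units.mk0 (t * σ (σ t / t)) (mul_ne_zero ht ((map_ne_zero σ).2
      (left_ne_zero_of_mul_eq_one hrel))) * (Units.mk0 ((σ t)⁻¹ * σ (σ t / t))
      (mul_ne_zero (inv_ne_zero h0) ((map_ne_zero σ).2 (left_ne_zero_of_mul_eq_one hrel))))⁻¹ := by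
    apply Units.ext
    rw [Units.val_mul, Units.val_inv_eq_inv_val, Units.val_mk0, Units.val_mk0, Units.val_mk0,
      map_div₀, hσ.out, ← htn]
    field_simp
  rw [h1, map_mul, map_inv, h, mul_inv_cancel]

/-- The vanishing element, of order dividing `q + 1`. -/
theorem exists_vz (hF : Fintype.card F = q ^ 2) (hq : 3 ≤ q) (hs : ∀ x, σ x = x ^ q) :
    ∃ x : S σ, VZ (S σ) x ∧ orderOf x ∣ q + 1 := by
  classical
  have : Finite (GUJ σ) := inferInstance
  have : Finite (PG σ) := inferInstance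
  have := Fintype.ofFinite (PG σ)
  have := Fintype.ofFinite (S σ)
  -- the eigenvalue
  obtain ⟨a, ha, ha2⟩ : ∃ a : F, a ^ (q + 1) = 1 ∧ a * a ≠ 1 := by
    by_contra hcon
    push Not at hcon
    have h1 := card_norm_eq_one hF
    have h2 : Nat.card {x : F // x ^ (q + 1) = 1} ≤ 2 := by
      have : Function.Injective (fun x : {x : F // x ^ (q + 1) = 1} => decide (x.1 = 1)) := by
        rintro ⟨x, hx⟩ ⟨y, hy⟩ h
        apply Subtype.ext
        have hx2 : (x - 1) * (x + 1) = 0 := by linear_combination hcon x hx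
        have hy2 : (y - 1) * (y + 1) = 0 := by linear_combination hcon y hy
        by_cases h0 : x = 1
        · have h3 : y = 1 := by
            have : decide (x = 1) = decide (y = 1) := h
            simpa [h0] using this.symm
          show x = y
          rw [h0]; exact h3.symm
        · have h3 : y ≠ 1 := by
            have : decide (x = 1) = decide (y = 1) := h
            intro h4
            apply h0
            simpa [h4] using this
          show x = y
          have h5 := (mul_eq_zero.1 hx2).resolve_left (sub_ne_zero.2 h0)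
          have h6 := (mul_eq_zero.1 hy2).resolve_left (sub_ne_zero.2 h3)
          linear_combination h5 - h6
      have h4 := Nat.card_le_card_of_injective _ this
      simpa using h4
    have h3 : Nat.card {x : F // x * x ^ q = 1} = Nat.card {x : F // x ^ (q + 1) = 1} :=
      Nat.card_congr (Equiv.subtypeEquivRight fun x => by rw [pow_succ'])
    omega
  have ha0 : a ≠ 0 := by
    rintro rfl
    rw [zero_pow (Nat.succ_ne_zero q)] at ha
    exact zero_ne_one ha
  obtain ⟨b, hb⟩ : ∃ b, b = a⁻¹ := ⟨_, rfl⟩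
  have hab : a * b = 1 := by rw [hb, mul_inv_cancel₀ ha0]
  have hne : a ≠ b := by
    intro h
    rw [← h] at hab
    exact ha2 hab
  have hσa : σ a = b := by
    rw [hs]
    have h1 : a * a ^ q = 1 := by rw [← pow_succ', ha]
    have h2 : a * (a ^ q - b) = 0 := by linear_combination h1 - hab
    exact sub_eq_zero.1 ((mul_eq_zero.1 h2).resolve_left ha0)
  have hσb : σ b = a := by rw [← hσa, hσ.out]
  have hbq : b ^ (q + 1) = 1 := by rw [hb, _root_.inv_pow, ha, inv_one]
  -- the skew element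
  obtain ⟨η, hη, hη1⟩ : ∃ η : F, η ≠ 0 ∧ σ η = -η := by
    have h1 := card_tr_ker (σ := σ) hF hs
    have h2 : (tr σ).ker ≠ ⊥ := by
      intro h
      rw [h, AddSubgroup.card_bot] at h1
      omega
    obtain ⟨⟨η, hη⟩, hη0⟩ := AddSubgroup.ne_bot_iff_exists_ne_zero.1 h2
    refine ⟨η, fun h => hη0 (Subtype.ext h), ?_⟩
    have h3 : η + σ η = 0 := hη
    linear_combination h3
  have hτ1 : σ (a + b) = a + b := by rw [map_add, hσa, hσb, add_comm]
  have hτ : ∀ t : F, σ t = t → t * t - (a + b) * t + 1 ≠ 0 := by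
    intro t ht h
    have h1 : (t - a) * (t - b) = 0 := by linear_combination h + hab
    rcases mul_eq_zero.1 h1 with h2 | h2
    · rw [sub_eq_zero.1 h2, hσa] at ht
      exact hne ht.symm
    · rw [sub_eq_zero.1 h2, hσb] at ht
      exact hne ht
  have hS : pr σ (we hη hη1 hτ1) ∈ S σ := ⟨_, by
    rw [SetLike.mem_coe, mem_SUs, mat_we]
    exact wm_det hη, rfl⟩
  obtain ⟨p, k, hp, -, hpk, hk⟩ := exists_prime_pow hF
  have : Fact p.Prime := ⟨hp⟩
  have hpq : p ∣ q := by rw [hpk]; exact dvd_pow_self p hk.ne'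
  obtain ⟨f, hf⟩ := exists_ps (σ := σ) hF hq hs
  refine ⟨⟨_, hS⟩, RankOne.vz (spS σ) (p := p) (k := k * 3) ?_ (by omega) ?_ hf
    (not_mem hη hη1 hτ1 hτ hS), ?_⟩
  · rw [card_US hF hs, hpk, pow_mul]
  · intro h
    have h1 : p ∣ q ^ 2 - 1 := h.trans (card_TS hF hs)
    have h2 : p ∣ q ^ 2 := hpq.trans (dvd_pow_self q two_ne_zero)
    have h3 := Nat.dvd_sub h2 h1
    have h4 : 1 ≤ q ^ 2 := Nat.one_le_pow _ _ (by omega)
    have h5 : q ^ 2 - (q ^ 2 - 1) = 1 := by omega
    rw [h5] at h3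
    exact hp.one_lt.ne' (Nat.dvd_one.1 h3)
  · apply orderOf_dvd_of_pow_eq_one
    apply Subtype.ext
    show (pr σ (we hη hη1 hτ1)) ^ (q + 1) = 1
    rw [← map_pow]
    have h1 : (we hη hη1 hτ1 : GUJ σ) ^ (q + 1) = 1 := by
      apply mat_inj
      have h2 : ∀ n : ℕ, mat σ ((we hη hη1 hτ1 : GUJ σ) ^ n) = wm η (a + b) ^ n := by
        intro n
        induction n with
        | zero => rw [pow_zero, pow_zero, mat_one]
        | succ n ih => rw [pow_succ, pow_succ, mat_mul, ih, mat_we]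
      rw [h2, mat_one, wm_pow hη hab hne ha hbq]
    rw [h1, map_one]

end finite

end

/-! ### the prime of `q² - q + 1` -/

open Cfsg.Agent.H620 Cfsg.Agent.H620.Lin Cfsg.Agent.H620.RowSL Cfsg.Agent.H620.RowSU
open Cfsg.Agent.LieClassical.HermSiegel Cfsg.Agent.LieClassical.SUBasic Cfsg.Agent.H695

/-- The killed primes of `PSU_n(q)` from the Siegel transvections (the argument of helper620). -/
theorem kill_psu {F : Type*} [Field F] [Fintype F] {n q : ℕ} (hF : Fintype.card F = q ^ 2) (hn : 3 ≤ n) {t e : ℕ}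
    (ht : t.Prime) (hs : Small F t e) (he : 2 < e) (hne : n < e + 2) : Kill (PSU n F q) t := by
  classical
  have := Fact.mk ht
  -- the isotropic vector
  obtain ⟨a, ha⟩ := exists_norm_eq hF (c := (-1 : F)) (by rw [neg_pow_q hF, one_pow])
  obtain ⟨μ, hμ0, hμ⟩ := exists_trace_zero_ne hF
  let i0 : Fin n := ⟨0, by omega⟩
  let i1 : Fin n := ⟨1, by omega⟩
  have h01 : i0 ≠ i1 := by simp [i0, i1]
  let u : Fin n → F := Pi.single i0 1 + Pi.single i1 a
  have hu0 : u i0 = 1 := by simp [u, h01]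
  have hu1 : u i1 = a := by simp [u, h01.symm]
  have hui : ∀ i, i ≠ i0 → i ≠ i1 → u i = 0 := by
    intro i h h'
    simp [u, h, h']
  have hherm : ∀ v, hermForm n F q v u = v i0 + v i1 * a ^ q := by
    intro v
    show ∑ i, v i * (u i) ^ q = _
    rw [← Finset.sum_subset (Finset.subset_univ {i0, i1}), Finset.sum_pair h01, hu0, hu1, one_pow,
      mul_one]
    intro i _ hi
    simp only [Finset.mem_insert, Finset.mem_singleton, not_or] at hi
    rw [hui i hi.1 hi.2, zero_pow_q hF, mul_zero]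
  have hu : u ≠ 0 := by
    intro h
    have := congrFun h i0
    rw [hu0] at this
    exact one_ne_zero this
  have hiso : hermForm n F q u u = 0 := by
    rw [hherm, hu0, hu1, ha]; ring
  have hS : IsSiegel q u 0 μ := by
    refine ⟨hiso, ?_, ?_⟩
    · rw [hherm]; simp
    · have : hermForm n F q (0 : Fin n → F) 0 = 0 := by
        show ∑ i, (0 : F) * (0 : F) ^ q = 0
        simp
      rw [this, add_zero, hμ]
  set x : SU n F q := siegel hF u 0 μ hS with hx
  have hxact : ∀ v, act x v = v + (μ * hermForm n F q v u) • u := by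
    intro v
    rw [hx, act_siegel, herm_zero_right hF, sub_zero, smul_zero, add_zero]
  let φl : (Fin n → F) →ₗ[F] F :=
    { toFun := fun v => μ * hermForm n F q v u
      map_add' := fun v w => by simp only [hherm, Pi.add_apply]; ring
      map_smul' := fun d v => by
        simp only [hherm, Pi.smul_apply, smul_eq_mul, RingHom.id_apply]; ring }
  exact (kill_of_transvection (RowSU.pr n F q) (QuotientGroup.mk'_surjective _) (toM n F q)
    (fun g hg => pr_eq_one hF hn hg) (fun g hg => by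
      have : g = 1 := mat_injective hg
      rw [this, map_one]) hs x u φl hxact hu (by
        show μ * hermForm n F q u u = 0
        rw [hiso, mul_zero]) (Pi.single i0 μ⁻¹) (by
        show μ * hermForm n F q _ u = 1
        rw [hherm]
        simp [h01.symm, hμ0]) he (by simpa using hne) (by rw [Fintype.card_fin]; omega)).1

/-- `PSU_3(q)`, `q ≥ 3`. -/
theorem tri {F : Type} [Field F] [Fintype F] {p q : ℕ} [hp : Fact p.Prime] [CharP F p]
    (hF : Fintype.card F = q ^ 2) (hq : 3 ≤ q) (hkp : Kill (PSU 3 F q) p) : Tri (PSU 3 F q) := by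
  obtain ⟨t, e, ht, hs, he, hne, htd⟩ := exists_t hF le_rfl (by omega) (by omega)
  have hkt := kill_psu hF le_rfl ht hs he hne
  have := Fact.mk ht
  have htp : p ≠ t := char_ne hs.1
  obtain ⟨σ, hσ, hss, ⟨e'⟩⟩ := exists_iso hF
  obtain ⟨w, hw, hwq⟩ := exists_vz (σ := σ) hF hq hss
  have hpq : p ∣ q := by
    have h1 : p ∣ Fintype.card F := by
      rw [← CharP.cast_eq_zero_iff F p]
      exact FiniteField.cast_card_eq_zero F
    rw [hF] at h1
    exact hp.out.dvd_of_dvd_pow h1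
  have hpd : p ∣ Nat.card (PSU 3 F q) := by
    have h := Cfsg.Agent.H277.ClsPsu.card_psu hF (n := 3) le_rfl
    have h3 : p ∣ Nat.gcd 3 (q + 1) * Nat.card (PSU 3 F q) := by
      rw [h]
      exact (dvd_pow hpq (by norm_num)).mul_right _
    refine (hp.out.dvd_mul.1 h3).resolve_left fun h4 => ?_
    have h5 := (Nat.dvd_add_right hpq).1 (h4.trans (Nat.gcd_dvd_right _ _))
    exact hp.out.one_lt.ne' (Nat.dvd_one.1 h5)
  obtain ⟨x, hx⟩ := exists_prime_orderOf_dvd_card' p hpd
  obtain ⟨y, hy⟩ := exists_prime_orderOf_dvd_card' t htd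
  refine ⟨x, y, e'.symm w, hkp.vz (by rw [hx]), hkt.vz (by rw [hy]), hw.mulEquiv e'.symm, ?_, ?_, ?_⟩
  · rw [hx, hy]
    exact (Nat.coprime_primes hp.out ht).2 htp
  · rw [hx, MulEquiv.orderOf_eq, Nat.Prime.coprime_iff_not_dvd hp.out]
    intro h3
    have h4 := (Nat.dvd_add_right hpq).1 (h3.trans hwq)
    exact hp.out.one_lt.ne' (Nat.dvd_one.1 h4)
  · rw [hy, MulEquiv.orderOf_eq, Nat.Prime.coprime_iff_not_dvd ht]
    intro h3
    refine hs.2 1 one_pos (by omega) ?_
    rw [pow_one, hF]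
    have h5 : q ^ 2 - 1 = (q + 1) * (q - 1) := by rw [← one_pow 2, Nat.sq_sub_sq, one_pow]
    rw [h5]
    exact (h3.trans hwq).mul_right _

end Cfsg.Agent.H695.Lie.PSUThree
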