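import Cfsg.Agent.H695.Lie.SpOrth
import Cfsg.Agent.H113.PSU.Chars
import Cfsg.Agent.H277.ClsPsu

/-!
# Killed primes for `PSU_n(q)`, `n ≥ 4` (helper695)

From the rank three characters of helper113.
-/

set_option autoImplicit false

open Cfsg

namespace Cfsg.Agent.H695.Lie.PSU

open Cfsg.Agent.H620 Cfsg.Agent.H620.RowSz Cfsg.Agent.H695.Lie.SpOrth

/-- The factors of the order. -/
def u (q i : ℕ) : ℕ := if Even i then q ^ (i + 2) - 1 else q ^ (i + 2) + 1

theorem u_cast {q : ℕ} (hq : 1 ≤ q) (i : ℕ) : (u q i : ℤ) = (q : ℤ) ^ (i + 2) - (-1) ^ i := by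
  unfold u
  have h1 : 1 ≤ q ^ (i + 2) := Nat.one_le_pow _ _ hq
  split_ifs with h
  · rw [h.neg_one_pow]; push_cast [Nat.cast_sub h1]; ring
  · rw [(Nat.not_even_iff_odd.1 h).neg_one_pow]; push_cast; ring

theorem u_dvd {q : ℕ} (i : ℕ) : u q i ∣ q ^ (2 * (i + 2)) - 1 := by
  have h7 : q ^ (2 * (i + 2)) - 1 = (q ^ (i + 2) + 1) * (q ^ (i + 2) - 1) := by
    rw [mul_comm 2, pow_mul, ← one_pow 2, Nat.sq_sub_sq, one_pow]
  rw [h7]
  unfold u
  split_ifs
  · exact Dvd.intro_left _ rfl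
  · exact Dvd.intro _ rfl

theorem dvd_u_even {q l e i : ℕ} (h : Prm q l e) (hi : Even i) : l ∣ u q i ↔ e ∣ i + 2 := by
  unfold u
  rw [if_pos hi, h.iff]

theorem dvd_u_odd {q l e i : ℕ} (h : Prm q l e) (he : 2 ≤ e) (hi : Odd i) :
    l ∣ u q i ↔ e ∣ 2 * (i + 2) ∧ ¬ e ∣ i + 2 := by
  have h7 : q ^ (2 * (i + 2)) - 1 = (q ^ (i + 2) + 1) * (q ^ (i + 2) - 1) := by
    rw [mul_comm 2, pow_mul, ← one_pow 2, Nat.sq_sub_sq, one_pow]
  rw [← h.iff, ← h.iff, h7, h.prime.dvd_mul]
  have h0 : u q i = q ^ (i + 2) + 1 := by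
    unfold u
    rw [if_neg (Nat.not_even_iff_odd.2 hi)]
  rw [h0]
  constructor
  · intro h1
    refine ⟨Or.inl h1, fun h2 => h.not_dvd_two he ?_⟩
    have hq : 0 < q := by
      rcases Nat.eq_zero_or_pos q with h3 | h3
      · exact absurd (h3 ▸ dvd_zero l) h.nd
      · exact h3
    have h3 : 1 ≤ q ^ (i + 2) := Nat.one_le_pow _ _ hq
    have h4 := Nat.dvd_sub h1 h2
    have h5 : q ^ (i + 2) + 1 - (q ^ (i + 2) - 1) = 2 := by omega
    rwa [h5] at h4
  · rintro ⟨h1, h2⟩
    exact h1.resolve_right h2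

theorem coprime_of_prime {l a b : ℕ} (hl : l.Prime) (h : ¬ l ∣ b) : (l ^ a).Coprime b :=
  Nat.Coprime.pow_left _ ((Nat.Prime.coprime_iff_not_dvd hl).2 h)

/-- The general step. -/
theorem psu_prime {F : Type} [Field F] [Fintype F] {q m l e i₀ : ℕ} (hF : Fintype.card F = q ^ 2) (hm : 2 ≤ m)
    (h : Prm q l e) (he : 3 ≤ e) (hi₀ : i₀ ≤ m) (h0 : l ∣ u q i₀) (hS : ∀ i ≤ m, l ∣ u q i → i = i₀)
    (hc : i₀ = m ∨ i₀ + 1 = m ∨ i₀ + 2 = m ∨ i₀ + 3 = m) :
    Kill (PSU (m + 2) F q) l ∧ l ∣ Nat.card (PSU (m + 2) F q) := by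
  have hq : 2 ≤ q := Cfsg.Agent.LieClassical.HermBasic.two_le hF
  have hl := h.prime
  have : Fact l.Prime := ⟨hl⟩
  have hcard := Cfsg.Agent.H277.ClsPsu.card_psu hF (n := m + 2) (by omega)
  have hprod : (∏ i ∈ Finset.range (m + 2 - 1), (if Even i then q ^ (i + 2) - 1 else q ^ (i + 2) + 1)) =
      u q i₀ * ∏ i ∈ (Finset.range (m + 1)).erase i₀, u q i := by
    rw [Finset.mul_prod_erase _ _ (Finset.mem_range.2 (by omega))]
    rfl
  have hrest : ¬ l ∣ q ^ ((m + 2) * (m + 2 - 1) / 2) * ∏ i ∈ (Finset.range (m + 1)).erase i₀, u q i := by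
    intro h1
    rcases hl.dvd_mul.1 h1 with h2 | h2
    · exact h.nd (hl.dvd_of_dvd_pow h2)
    · rw [hl.prime.dvd_finsetProd_iff] at h2
      obtain ⟨i, hi, h3⟩ := h2
      rw [Finset.mem_erase, Finset.mem_range] at hi
      exact hi.1 (hS i (by omega) h3)
  rw [hprod] at hcard
  have hcard' : Nat.gcd (m + 2) (q + 1) * Nat.card (PSU (m + 2) F q) =
      u q i₀ * (q ^ ((m + 2) * (m + 2 - 1) / 2) * ∏ i ∈ (Finset.range (m + 1)).erase i₀, u q i) := by
    rw [hcard]; ring
  have hd : l ^ (Nat.card (PSU (m + 2) F q)).factorization l ∣ u q i₀ := by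
    have h1 : l ^ (Nat.card (PSU (m + 2) F q)).factorization l ∣
        u q i₀ * (q ^ ((m + 2) * (m + 2 - 1) / 2) * ∏ i ∈ (Finset.range (m + 1)).erase i₀, u q i) := by
      rw [← hcard']
      exact (Nat.ordProj_dvd _ _).mul_left _
    exact (coprime_of_prime hl hrest).dvd_of_dvd_mul_right h1
  have hadd : ¬ l ∣ q + 1 := h.not_dvd_add he
  constructor
  · obtain ⟨χ₁, χ₂, f, g, h1, h2, h3, h4, h5, h6⟩ := Cfsg.Agent.H113.PSU.Chars.exists_chars (F := F) hF hm
    have hnd : ¬ ((l : ℤ) ∣ ((q : ℤ) ^ 2 - 1) * (q + 1)) := by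
      intro h7
      have h8 : (((q : ℤ) ^ 2 - 1) * (q + 1)) = (((q - 1) * (q + 1) * (q + 1) : ℕ) : ℤ) := by
        push_cast [Nat.cast_sub (show 1 ≤ q by omega)]
        ring
      rw [h8, Int.natCast_dvd_natCast] at h7
      rcases hl.dvd_mul.1 h7 with h9 | h9
      · rcases hl.dvd_mul.1 h9 with h9 | h9
        · exact h.not_dvd_sub (by omega) h9
        · exact hadd h9
      · exact hadd h9
    have hfin : ∀ {d : ℕ} {X : ℤ}, (u q i₀ : ℤ) ∣ X → ((q : ℤ) ^ 2 - 1) * (q + 1) * d = X →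
        l ^ (Nat.card (PSU (m + 2) F q)).factorization l ∣ d := by
      intro d X hX hd'
      have h7 : ((l ^ (Nat.card (PSU (m + 2) F q)).factorization l : ℕ) : ℤ) ∣ ((q : ℤ) ^ 2 - 1) * (q + 1) * d := by
        rw [hd']
        exact (Int.natCast_dvd_natCast.2 hd).trans hX
      rw [← Int.natCast_dvd_natCast]
      refine (IsCoprime.dvd_of_dvd_mul_left ?_ h7)
      rw [Nat.cast_pow]
      refine IsCoprime.pow_left ?_
      exact (Prime.coprime_iff_not_dvd (Nat.prime_iff_prime_int.1 hl)).2 hnd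
    have hu := u_cast (q := q) (by omega) i₀
    rcases hc with rfl | rfl | rfl | rfl
    · refine kill_of_dvd l h1 f h3 (hfin ?_ h5)
      rw [hu]
      exact ⟨(q : ℤ) ^ 2 * (q ^ (i₀ - 1) + (-1) ^ i₀), by ring⟩
    · refine kill_of_dvd l h2 g h4 (hfin ?_ h6)
      rw [hu]
      exact ⟨(q : ℤ) ^ 3 * (q ^ (i₀ + 1) - (-1) ^ (i₀ + 1)), by ring⟩
    · refine kill_of_dvd l h2 g h4 (hfin ?_ h6)
      rw [hu]
      exact ⟨(q : ℤ) ^ 3 * (q ^ (i₀ + 2 + 1) + (-1) ^ (i₀ + 2)), by ring⟩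
    · refine kill_of_dvd l h1 f h3 (hfin ?_ h5)
      rw [hu]
      have e1 : i₀ + 3 - 1 = i₀ + 2 := by omega
      rw [e1]
      exact ⟨(q : ℤ) ^ 2 * (q ^ (i₀ + 3 + 2) - (-1) ^ (i₀ + 3)), by ring⟩
  · have h1 : l ∣ Nat.gcd (m + 2) (q + 1) * Nat.card (PSU (m + 2) F q) := by
      rw [hcard']
      exact h0.mul_right _
    exact (hl.dvd_mul.1 h1).resolve_left fun h2 => hadd (h2.trans (Nat.gcd_dvd_right _ _))

theorem ne_of_le {a b : ℕ} (h1 : 0 < b) (h2 : b < a) : ¬ a ∣ b := fun h => by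
  have := Nat.le_of_dvd h1 h
  omega

/-- `PSU_n(q)`, `n ≥ 4`. -/
theorem kill3_psu {F : Type} [Field F] [Fintype F] {p q m : ℕ} [hp : Fact p.Prime] [CharP F p]
    (hF : Fintype.card F = q ^ 2) (hm : 2 ≤ m) (h42 : ¬ (m = 2 ∧ q = 2)) : Kill3 (PSU (m + 2) F q) p := by
  have hq : 2 ≤ q := Cfsg.Agent.LieClassical.HermBasic.two_le hF
  have hpq : p ∣ q := by
    obtain ⟨s, hs⟩ := Cfsg.Agent.H477.HC.card_pow F p
    rw [Nat.card_eq_fintype_card, hF] at hs
    have h1 : s ≠ 0 := by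
      rintro rfl
      rw [pow_zero] at hs
      nlinarith
    exact hp.out.dvd_of_dvd_pow (n := 2) (hs ▸ dvd_pow_self p h1)
  have hne : ∀ {l e : ℕ}, Prm q l e → l ≠ p := by
    rintro l e h rfl
    exact h.nd hpq
  have key : ∀ {e e' i i' : ℕ}, e ≠ e' → 3 ≤ e → 3 ≤ e' → i ≤ m → i' ≤ m →
      (∀ l, Prm q l e → l ∣ u q i ∧ ∀ j ≤ m, l ∣ u q j → j = i) →
      (∀ l, Prm q l e' → l ∣ u q i' ∧ ∀ j ≤ m, l ∣ u q j → j = i') →
      (i = m ∨ i + 1 = m ∨ i + 2 = m ∨ i + 3 = m) → (i' = m ∨ i' + 1 = m ∨ i' + 2 = m ∨ i' + 3 = m) →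
      ¬ (q = 2 ∧ e = 6) → ¬ (q = 2 ∧ e' = 6) → Kill3 (PSU (m + 2) F q) p := by
    intro e e' i i' hee h3 h3' hi hi' H H' hc hc' h6 h6'
    obtain ⟨l, hl⟩ := exists_prm (q := q) (e := e) hq (by omega) (by omega) h6
    obtain ⟨k, hk⟩ := exists_prm (q := q) (e := e') hq (by omega) (by omega) h6'
    obtain ⟨c1, c2⟩ := psu_prime hF hm hl h3 hi (H l hl).1 (H l hl).2 hc
    obtain ⟨d1, d2⟩ := psu_prime hF hm hk h3' hi' (H' k hk).1 (H' k hk).2 hc'
    exact ⟨l, k, hl.prime, hk.prime, hl.ne hk hee, hne hl, hne hk, c2, d2, c1, d1⟩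
  rcases Nat.even_or_odd m with hev | hodd
  · have hevk := hev
    obtain ⟨k, hk⟩ := hevk
    -- the exponent `2 (n - 1)`
    have hA : ∀ l, Prm q l (2 * (m + 1)) → l ∣ u q (m - 1) ∧ ∀ j ≤ m, l ∣ u q j → j = m - 1 := by
      intro l hl
      have ho : Odd (m - 1) := ⟨k - 1, by omega⟩
      refine ⟨(dvd_u_odd hl (by omega) ho).2 ⟨?_, ne_of_le (by omega) (by omega)⟩, fun j hj hd => ?_⟩
      · have : m - 1 + 2 = m + 1 := by omega
        rw [this]
      · rcases Nat.even_or_odd j with h1 | h1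
        · exact absurd ((dvd_u_even hl h1).1 hd) (ne_of_le (by omega) (by omega))
        · obtain ⟨h2, -⟩ := (dvd_u_odd hl (by omega) h1).1 hd
          have h3 : m + 1 ∣ j + 2 := Nat.dvd_of_mul_dvd_mul_left (by norm_num) h2
          obtain ⟨c, hc⟩ := h3
          rcases c with _ | _ | c
          · omega
          · omega
          · exfalso
            have : m + 1 + (m + 1) ≤ (m + 1) * (c + 1 + 1) := by nlinarith
            omega
    rcases (show m = 2 ∨ m = 4 ∨ 6 ≤ m by omega) with rfl | rfl | h6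
    · -- `n = 4`
      refine key (e := 2 * (2 + 1)) (e' := 4) (i := 2 - 1) (i' := 2) (by norm_num) (by norm_num) (by norm_num)
        (by norm_num) (by norm_num) hA ?_ (by norm_num) (by norm_num) (by omega) (by omega)
      intro l hl
      refine ⟨(dvd_u_even hl (by decide)).2 (by norm_num), fun j hj hd => ?_⟩
      interval_cases j
      · exact absurd ((dvd_u_even hl (by decide)).1 hd) (by norm_num)
      · exact absurd ((dvd_u_odd hl (by norm_num) (by decide)).1 hd).1 (by norm_num)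
      · rfl
    · -- `n = 6`
      refine key (e := 2 * (4 + 1)) (e' := 3) (i := 4 - 1) (i' := 4) (by norm_num) (by norm_num) (by norm_num)
        (by norm_num) (by norm_num) hA ?_ (by norm_num) (by norm_num) (by omega) (by omega)
      intro l hl
      refine ⟨(dvd_u_even hl (by decide)).2 (by norm_num), fun j hj hd => ?_⟩
      interval_cases j
      · exact absurd ((dvd_u_even hl (by decide)).1 hd) (by norm_num)
      · exact absurd hd (fun h => ((dvd_u_odd hl (by norm_num) (by decide)).1 h).2 (by norm_num))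
      · exact absurd ((dvd_u_even hl (by decide)).1 hd) (by norm_num)
      · exact absurd ((dvd_u_odd hl (by norm_num) (by decide)).1 hd).1 (by norm_num)
      · rfl
    · refine key (e := 2 * (m + 1)) (e' := 2 * (m - 1)) (i := m - 1) (i' := m - 3) (by omega) (by omega) (by omega)
        (by omega) (by omega) hA ?_ (by omega) (by omega) (by omega) (by omega)
      intro l hl
      have ho : Odd (m - 3) := ⟨k - 2, by omega⟩
      refine ⟨(dvd_u_odd hl (by omega) ho).2 ⟨?_, ne_of_le (by omega) (by omega)⟩, fun j hj hd => ?_⟩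
      · have : m - 3 + 2 = m - 1 := by omega
        rw [this]
      · rcases Nat.even_or_odd j with h1 | h1
        · exact absurd ((dvd_u_even hl h1).1 hd) (ne_of_le (by omega) (by omega))
        · obtain ⟨h2, -⟩ := (dvd_u_odd hl (by omega) h1).1 hd
          have h3 : m - 1 ∣ j + 2 := Nat.dvd_of_mul_dvd_mul_left (by norm_num) h2
          obtain ⟨c, hc⟩ := h3
          rcases c with _ | _ | c
          · omega
          · omega
          · exfalso
            have : m - 1 + (m - 1) ≤ (m - 1) * (c + 1 + 1) := by nlinarith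
            omega
  · have hoddk := hodd
    obtain ⟨k, hk⟩ := hoddk
    -- the exponent `2 n`
    have hD : ∀ l, Prm q l (2 * (m + 2)) → l ∣ u q m ∧ ∀ j ≤ m, l ∣ u q j → j = m := by
      intro l hl
      refine ⟨(dvd_u_odd hl (by omega) hodd).2 ⟨dvd_rfl, ne_of_le (by omega) (by omega)⟩, fun j hj hd => ?_⟩
      rcases Nat.even_or_odd j with h1 | h1
      · exact absurd ((dvd_u_even hl h1).1 hd) (ne_of_le (by omega) (by omega))
      · obtain ⟨h2, -⟩ := (dvd_u_odd hl (by omega) h1).1 hd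
        have h3 : m + 2 ∣ j + 2 := Nat.dvd_of_mul_dvd_mul_left (by norm_num) h2
        have := Nat.le_of_dvd (by omega) h3
        omega
    rcases (show m = 3 ∨ 5 ≤ m by omega) with rfl | h5
    · refine key (e := 2 * (3 + 2)) (e' := 4) (i := 3) (i' := 2) (by norm_num) (by norm_num) (by norm_num)
        (by norm_num) (by norm_num) hD ?_ (by norm_num) (by norm_num) (by omega) (by omega)
      intro l hl
      refine ⟨(dvd_u_even hl (by decide)).2 (by norm_num), fun j hj hd => ?_⟩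
      interval_cases j
      · exact absurd ((dvd_u_even hl (by decide)).1 hd) (by norm_num)
      · exact absurd ((dvd_u_odd hl (by norm_num) (by decide)).1 hd).1 (by norm_num)
      · rfl
      · exact absurd ((dvd_u_odd hl (by norm_num) (by decide)).1 hd).1 (by norm_num)
    · refine key (e := 2 * (m + 2)) (e' := 2 * m) (i := m) (i' := m - 2) (by omega) (by omega) (by omega)
        (by omega) (by omega) hD ?_ (by omega) (by omega) (by omega) (by omega)
      intro l hl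
      have ho : Odd (m - 2) := ⟨k - 1, by omega⟩
      refine ⟨(dvd_u_odd hl (by omega) ho).2 ⟨?_, ne_of_le (by omega) (by omega)⟩, fun j hj hd => ?_⟩
      · have : m - 2 + 2 = m := by omega
        rw [this]
      · rcases Nat.even_or_odd j with h1 | h1
        · have : j ≠ m := by
            rintro rfl
            exact Nat.not_even_iff_odd.2 hodd h1
          exact absurd ((dvd_u_even hl h1).1 hd) (ne_of_le (by omega) (by omega))
        · obtain ⟨h2, -⟩ := (dvd_u_odd hl (by omega) h1).1 hd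
          have h3 : m ∣ j + 2 := Nat.dvd_of_mul_dvd_mul_left (by norm_num) h2
          obtain ⟨c, hc⟩ := h3
          rcases c with _ | _ | c
          · omega
          · omega
          · exfalso
            have : m + m ≤ m * (c + 1 + 1) := by nlinarith
            omega

end Cfsg.Agent.H695.Lie.PSU
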