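import Cfsg.Agent.H695.Lie.SpPoints
import Cfsg.Agent.H695.Lie.PSpFour
import Cfsg.Agent.H695.Lie.PSU
import Cfsg.Agent.S0822
import Cfsg.Agent.H690.LieGood

/-!
# `PSp_4(q)`, `q` even, and the group of order 25920 (helper695)
-/

set_option autoImplicit false

open Cfsg

namespace Cfsg.Agent.H695.Lie.PSpEven

open Cfsg.Agent.H620 Cfsg.Agent.H695 Cfsg.Agent.H620.RowSz Cfsg.Agent.H620.RowClass Cfsg.Agent.H695.Lie.SpOrth

section

variable {F : Type} [Field F] [Fintype F]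

theorem card_eq : ∃ g, (g = 1 ∨ g = 2) ∧ g * Nat.card (PSp 2 F) = Fintype.card F ^ 4 *
    ((Fintype.card F - 1) ^ 2 * (Fintype.card F + 1) ^ 2 * (Fintype.card F ^ 2 + 1)) := by
  have h := RowSp.card_pos' (F := F) (m := 2) (by norm_num)
  have hq : 2 ≤ Fintype.card F := Fintype.one_lt_card
  refine ⟨Nat.gcd 2 (Fintype.card F - 1), ?_, ?_⟩
  · have := Nat.gcd_dvd_left 2 (Fintype.card F - 1)
    exact (Nat.dvd_prime Nat.prime_two).1 this
  · rw [h, Finset.prod_range_succ, Finset.prod_range_one]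
    congr 1
    have e1 : Fintype.card F ^ (2 * (0 + 1)) - 1 = (Fintype.card F + 1) * (Fintype.card F - 1) := by
      have : Fintype.card F ^ (2 * (0 + 1)) - 1 = Fintype.card F ^ 2 - 1 ^ 2 := by norm_num
      rw [this, Nat.sq_sub_sq]
    have e2 : Fintype.card F ^ (2 * (1 + 1)) - 1 =
        (Fintype.card F ^ 2 + 1) * ((Fintype.card F + 1) * (Fintype.card F - 1)) := by
      have : Fintype.card F ^ (2 * (1 + 1)) - 1 = (Fintype.card F ^ 2) ^ 2 - (1 ^ 2) ^ 2 := by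
        rw [← pow_mul]; norm_num
      rw [this, Nat.sq_sub_sq, Nat.sq_sub_sq, one_pow]
    rw [e1, e2]
    ring

theorem kill_aux {l : ℕ} (hl : l.Prime) (h2 : l ≠ 2) {A B d : ℕ} {χ : PSp 2 F → ℂ} (hχ : IsIrrCharacter _ χ)
    (hd : χ 1 = d) (hA : ¬ l ∣ A) (hcard : ∃ g, (g = 1 ∨ g = 2) ∧ g * Nat.card (PSp 2 F) = A * B) (hB : B ∣ 2 * d) :
    Kill (PSp 2 F) l := by
  have := Fact.mk hl
  obtain ⟨g, -, hg⟩ := hcard
  refine kill_of_dvd l hχ d hd ?_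
  have h1 : l ^ (Nat.card (PSp 2 F)).factorization l ∣ A * B := by
    rw [← hg]
    exact (Nat.ordProj_dvd _ _).mul_left _
  have h3 : (l ^ (Nat.card (PSp 2 F)).factorization l).Coprime A :=
    Nat.Coprime.pow_left _ ((Nat.Prime.coprime_iff_not_dvd hl).2 hA)
  have h4 : (l ^ (Nat.card (PSp 2 F)).factorization l).Coprime 2 :=
    Nat.Coprime.pow_left _ ((Nat.coprime_primes hl Nat.prime_two).2 h2)
  exact h4.dvd_of_dvd_mul_left ((h3.dvd_of_dvd_mul_left h1).trans hB)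

omit [Fintype F] in
theorem dvd_card_aux {l : ℕ} (hl : l.Prime) (h2 : l ≠ 2) {X : ℕ}
    (hcard : ∃ g, (g = 1 ∨ g = 2) ∧ g * Nat.card (PSp 2 F) = X) (h : l ∣ X) : l ∣ Nat.card (PSp 2 F) := by
  obtain ⟨g, hg1, hg⟩ := hcard
  rw [← hg] at h
  refine (hl.dvd_mul.1 h).resolve_left fun h1 => ?_
  rcases hg1 with rfl | rfl
  · exact hl.one_lt.ne' (Nat.dvd_one.1 h1)
  · exact h2 ((Nat.prime_dvd_prime_iff_eq hl Nat.prime_two).1 h1)

theorem not_dvd_card {l : ℕ} (hl : l.Prime) {q : ℕ} (h : l ∣ q ^ 2 - 1 ∨ l ∣ q ^ 2 + 1) (hq : 2 ≤ q) : ¬ l ∣ q := by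
  intro h1
  have h2 : l ∣ q ^ 2 := dvd_pow h1 two_ne_zero
  have h3 : 4 ≤ q ^ 2 := by nlinarith
  rcases h with h | h
  · have := Nat.dvd_sub h2 h
    have e : q ^ 2 - (q ^ 2 - 1) = 1 := by omega
    rw [e] at this
    exact hl.one_lt.ne' (Nat.dvd_one.1 this)
  · exact hl.one_lt.ne' (Nat.dvd_one.1 ((Nat.dvd_add_right h2).1 h))

theorem kill_add {l : ℕ} (hl : l.Prime) (h2 : l ≠ 2) (h : l ∣ Fintype.card F + 1) :
    Kill (PSp 2 F) l ∧ l ∣ Nat.card (PSp 2 F) := by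
  have hq : 2 ≤ Fintype.card F := Fintype.one_lt_card
  obtain ⟨χ₁, -, d, -, hχ, -, hd, -, hd2, -⟩ := SpPoints.exists_chars_two (F := F)
  obtain ⟨g, hg1, hg⟩ := card_eq (F := F)
  obtain ⟨q, hqq⟩ : ∃ q, q = Fintype.card F := ⟨_, rfl⟩
  rw [← hqq] at h hq hd2 hg
  have hl2 : ¬ l ∣ 2 := fun h1 => h2 ((Nat.prime_dvd_prime_iff_eq hl Nat.prime_two).1 h1)
  have h1 : ¬ l ∣ q := fun h3 => hl.one_lt.ne' (Nat.dvd_one.1 ((Nat.dvd_add_right h3).1 h))
  have h3 : ¬ l ∣ q - 1 := by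
    intro h4
    have h5 := Nat.dvd_sub h h4
    have e : q + 1 - (q - 1) = 2 := by omega
    rw [e] at h5
    exact hl2 h5
  have h4 : ¬ l ∣ q ^ 2 + 1 := by
    intro h5
    have h6 : l ∣ (q + 1) * q + (q + 1) := (h.mul_right _).add h
    have h7 : (q + 1) * q + (q + 1) = (q ^ 2 + 1) + 2 * q := by ring
    rw [h7] at h6
    rcases hl.dvd_mul.1 ((Nat.dvd_add_right h5).1 h6) with h8 | h8
    · exact hl2 h8
    · exact h1 h8
  constructor
  · refine kill_aux hl h2 hχ hd (A := q ^ 4 * ((q - 1) ^ 2 * (q ^ 2 + 1))) (B := (q + 1) ^ 2) ?_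
      ⟨g, hg1, by rw [hg]; ring⟩ (by rw [hd2]; exact Dvd.intro_left _ rfl)
    intro h5
    rcases hl.dvd_mul.1 h5 with h6 | h6
    · exact h1 (hl.dvd_of_dvd_pow h6)
    rcases hl.dvd_mul.1 h6 with h6 | h6
    · exact h3 (hl.dvd_of_dvd_pow h6)
    · exact h4 h6
  · refine dvd_card_aux hl h2 ⟨g, hg1, hg⟩ (Dvd.dvd.mul_left (Dvd.dvd.mul_right (Dvd.dvd.mul_left ?_ _) _) _)
    exact dvd_pow h two_ne_zero

theorem kill_sq {l : ℕ} (hl : l.Prime) (h2 : l ≠ 2) (h : l ∣ Fintype.card F ^ 2 + 1) :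
    Kill (PSp 2 F) l ∧ l ∣ Nat.card (PSp 2 F) := by
  have hq : 2 ≤ Fintype.card F := Fintype.one_lt_card
  obtain ⟨-, χ₂, -, e, -, hχ, -, he, -, he2⟩ := SpPoints.exists_chars_two (F := F)
  obtain ⟨g, hg1, hg⟩ := card_eq (F := F)
  obtain ⟨q, hqq⟩ : ∃ q, q = Fintype.card F := ⟨_, rfl⟩
  rw [← hqq] at h hq he2 hg
  have hl2 : ¬ l ∣ 2 := fun h1 => h2 ((Nat.prime_dvd_prime_iff_eq hl Nat.prime_two).1 h1)
  have h1 : ¬ l ∣ q := not_dvd_card hl (Or.inr h) hq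
  have h3 : ¬ l ∣ q ^ 2 - 1 := by
    intro h4
    have h5 := Nat.dvd_sub h h4
    have h6 : 4 ≤ q ^ 2 := by nlinarith
    have e : q ^ 2 + 1 - (q ^ 2 - 1) = 2 := by omega
    rw [e] at h5
    exact hl2 h5
  have h4 : q ^ 2 - 1 = (q + 1) * (q - 1) := by
    have : q ^ 2 - 1 = q ^ 2 - 1 ^ 2 := by norm_num
    rw [this, Nat.sq_sub_sq]
  rw [h4] at h3
  constructor
  · refine kill_aux hl h2 hχ he (A := q ^ 4 * ((q - 1) ^ 2 * (q + 1) ^ 2)) (B := q ^ 2 + 1) ?_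
      ⟨g, hg1, by rw [hg]; ring⟩ (by rw [he2]; exact Dvd.intro_left _ rfl)
    intro h5
    rcases hl.dvd_mul.1 h5 with h6 | h6
    · exact h1 (hl.dvd_of_dvd_pow h6)
    rcases hl.dvd_mul.1 h6 with h6 | h6
    · exact h3 ((hl.dvd_of_dvd_pow h6).mul_left _)
    · exact h3 ((hl.dvd_of_dvd_pow h6).mul_right _)
  · exact dvd_card_aux hl h2 ⟨g, hg1, hg⟩ (Dvd.dvd.mul_left (Dvd.dvd.mul_left h _) _)

/-- `PSp_4(q)`, `q` even, `q ≥ 4` (and even `q = 2`). -/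
theorem kill3 [CharP F 2] : Kill3 (PSp 2 F) 2 := by
  have hq : 2 ≤ Fintype.card F := Fintype.one_lt_card
  have h2 : 2 ∣ Fintype.card F := by
    rw [← CharP.cast_eq_zero_iff F 2]
    exact FiniteField.cast_card_eq_zero F
  obtain ⟨l, hl, hld⟩ := Nat.exists_prime_and_dvd (n := Fintype.card F + 1) (by omega)
  obtain ⟨k, hk, hkd⟩ := Nat.exists_prime_and_dvd (n := Fintype.card F ^ 2 + 1) (by
    have : 0 < Fintype.card F ^ 2 := by positivity
    omega)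
  have hl2 : l ≠ 2 := by
    rintro rfl
    omega
  have hk2 : k ≠ 2 := by
    rintro rfl
    have := (Nat.dvd_add_right (dvd_pow h2 two_ne_zero)).1 hkd
    omega
  have hlk : l ≠ k := by
    rintro rfl
    obtain ⟨q, hqq⟩ : ∃ q, q = Fintype.card F := ⟨_, rfl⟩
    rw [← hqq] at hld hkd
    have h1 : ¬ l ∣ q := fun h3 => hl.one_lt.ne' (Nat.dvd_one.1 ((Nat.dvd_add_right h3).1 hld))
    have h6 : l ∣ (q + 1) * q + (q + 1) := (hld.mul_right _).add hld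
    have h7 : (q + 1) * q + (q + 1) = (q ^ 2 + 1) + 2 * q := by ring
    rw [h7] at h6
    rcases hl.dvd_mul.1 ((Nat.dvd_add_right hkd).1 h6) with h8 | h8
    · exact hl2 ((Nat.prime_dvd_prime_iff_eq hl Nat.prime_two).1 h8)
    · exact h1 h8
  obtain ⟨c1, c2⟩ := kill_add (F := F) hl hl2 hld
  obtain ⟨d1, d2⟩ := kill_sq (F := F) hk hk2 hkd
  exact ⟨l, k, hl, hk, hlk, hl2, hk2, c2, d2, c1, d1⟩

end

/-! ### the group of order 25920 -/

theorem tri_of_both {K : Type*} [Group K] [Finite K] [IsSimpleGroup K] (h2 : IsLieTypeChar 2 K)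
    (h3 : IsLieTypeChar 3 K) {F : Type} [Field F] [Fintype F] (e : K ≃* PSp 2 F) (hF : Fintype.card F = 3) :
    Tri K := by
  have : Fact (Nat.Prime 2) := ⟨Nat.prime_two⟩
  have : Fact (Nat.Prime 3) := ⟨Nat.prime_three⟩
  have h5 : Kill (PSp 2 F) 5 ∧ 5 ∣ Nat.card (PSp 2 F) := by
    refine kill_sq (F := F) (by norm_num) (by norm_num) ?_
    rw [hF]
    norm_num
  refine tri_of_kill Nat.prime_two Nat.prime_three (show Nat.Prime 5 by norm_num) (by norm_num) (by norm_num)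
    (by norm_num) (kill_of_lie Nat.prime_two h2) (kill_of_lie Nat.prime_three h3) (h5.1.mulEquiv e.symm)
    (Cfsg.Agent.H690.LieGood.dvd_card_of_hasSplit (Cfsg.Agent.H690.LieRow.hasSplit Nat.prime_two h2))
    (Cfsg.Agent.H690.LieGood.dvd_card_of_hasSplit (Cfsg.Agent.H690.LieRow.hasSplit Nat.prime_three h3)) ?_
  rw [Nat.card_congr e.toEquiv]
  exact h5.2

end Cfsg.Agent.H695.Lie.PSpEven
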