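import Cfsg.Agent.H695.RowFam
import Cfsg.Agent.H695.Lie.PSpEven
import Cfsg.Agent.H695.Lie.PSUThree
import Cfsg.Agent.H626.PSLRow.Row
import Cfsg.Agent.H515.KillTwDTri
import Cfsg.Agent.H515.KillTwD
import Cfsg.Agent.H515.KillExcRows
import Cfsg.Agent.H515.KillRankTwo
import Cfsg.Agent.H620.RowTwF
import Cfsg.Agent.H690.LieGood

/-!
# The rows of the groups of Lie type for S4849 (helper695)
-/

set_option autoImplicit false

open Cfsg

namespace Cfsg.Agent.H695.Lie.All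

open Cfsg.Agent.H620 Cfsg.Agent.H620.RowClass Cfsg.Agent.H620.RowSz Cfsg.Agent.H695 Cfsg.Agent.H695.Lie Cfsg.Agent.H695.RowFam

variable {K : Type*} [Group K] [Finite K] [IsSimpleGroup K] {p : ℕ}

theorem dvd_card (hp : p.Prime) (h : IsLieTypeChar p K) : p ∣ Nat.card K := by
  have := Fact.mk hp
  exact Cfsg.Agent.H690.LieGood.dvd_card_of_hasSplit (Cfsg.Agent.H690.LieRow.hasSplit hp h)

theorem row_of_kill3 (hp : p.Prime) (h : IsLieTypeChar p K) {L : Type*} [Group L] (e : K ≃* L) (hk : Kill3 L p) :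
    Row49 K :=
  (tri_of_kill3 hp (dvd_card hp h) (kill_of_lie hp h) (hk.mulEquiv e.symm)).row49

theorem row_of_tri {L : Type*} [Group L] (e : K ≃* L) (h : Tri L) : Row49 K := (h.mulEquiv e.symm).row49

theorem row_isPSL (hp : p.Prime) (h : IsPSLChar p K) : Row49 K := by
  have hK : IsLieTypeChar p K := Or.inl h
  obtain ⟨F, _, _, _, n, hn, h4, ⟨e⟩⟩ := h
  have : Fact p.Prime := ⟨hp⟩
  by_cases h2 : n = 2
  · subst h2
    exact (RowFam.row49_psl_two (h4 rfl)).mulEquiv e.symm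
  · have hn3 : 3 ≤ n := by omega
    by_cases h32 : n = 3 ∧ Fintype.card F = 2
    · obtain ⟨rfl, hF⟩ := h32
      exact (RowFam.row49_psl_three_two hF).mulEquiv e.symm
    · exact row_of_kill3 hp hK e (Cfsg.Agent.H626.PSLRow.kill3_psl hn3 h32)

theorem row_isPSp (hp : p.Prime) (h : IsPSpChar p K) : Row49 K := by
  have hK : IsLieTypeChar p K := Or.inr (Or.inl h)
  obtain ⟨F, _, _, _, m, hm, h3, ⟨e⟩⟩ := h
  have : Fact p.Prime := ⟨hp⟩
  by_cases hm3 : 3 ≤ m
  · exact row_of_kill3 hp hK e (SpOrth.kill3_psp hm3)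
  · obtain rfl : m = 2 := by omega
    by_cases h2 : p = 2
    · subst h2
      exact row_of_kill3 hp hK e PSpEven.kill3
    · have h2F : (2 : F) ≠ 0 := by
        intro h
        have h5 : p ∣ 2 := (CharP.cast_eq_zero_iff F p 2).1 (by exact_mod_cast h)
        exact h2 ((Nat.prime_dvd_prime_iff_eq hp Nat.prime_two).1 h5)
      have hF3 := h3 rfl
      by_cases hq : Fintype.card F = 3
      · have hp3 : p = 3 := by
          have h8 : ((3 : ℕ) : F) = 0 := by rw [← hq]; exact FiniteField.cast_card_eq_zero F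
          exact (Nat.prime_dvd_prime_iff_eq hp Nat.prime_three).1 ((CharP.cast_eq_zero_iff F p _).1 h8)
        subst hp3
        have : Fact (Nat.Prime 2) := ⟨Nat.prime_two⟩
        have : Fintype (GaloisField 2 2) := Fintype.ofFinite _
        have hc : Fintype.card (GaloisField 2 2) = 4 := by
          rw [← Nat.card_eq_fintype_card, GaloisField.card 2 2 two_ne_zero]; norm_num
        obtain ⟨g⟩ := Cfsg.Agent.S0822.result (F := GaloisField 2 2) (K := F) hc hq
        have h5 : IsLieTypeChar 2 K := Or.inr (Or.inr (Or.inl ⟨GaloisField 2 2, inferInstance, inferInstance,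
          inferInstance, 4, 2, by rw [hc]; norm_num, by norm_num, by norm_num, ⟨e.trans g.symm⟩⟩))
        exact (PSpEven.tri_of_both h5 hK e hq).row49
      · exact row_of_tri e (PSpFour.tri (p := p) h2F (by omega) ((kill_of_lie hp hK).mulEquiv e))

theorem row_isPSU (hp : p.Prime) (h : IsPSUChar p K) : Row49 K := by
  have hK : IsLieTypeChar p K := Or.inr (Or.inr (Or.inl h))
  obtain ⟨F, _, _, _, n, q, hF, hn, h3, ⟨e⟩⟩ := h
  have : Fact p.Prime := ⟨hp⟩
  have hq : 2 ≤ q := Cfsg.Agent.LieClassical.HermBasic.two_le hF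
  by_cases h4 : n = 4 ∧ q = 2
  · obtain ⟨rfl, rfl⟩ := h4
    have : Fact (Nat.Prime 3) := ⟨Nat.prime_three⟩
    obtain ⟨f⟩ := Cfsg.Agent.S0822.result (F := F) (K := ZMod 3) (by rw [hF]; norm_num) (ZMod.card 3)
    have h5 : IsPSpChar 3 K := ⟨ZMod 3, inferInstance, inferInstance, inferInstance, 2, le_rfl,
      fun _ => by rw [ZMod.card], ⟨e.trans f⟩⟩
    exact row_isPSp Nat.prime_three h5
  · by_cases h5 : n = 3
    · subst h5
      exact row_of_tri e (PSUThree.tri (p := p) hF (by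
        rcases Nat.lt_or_ge q 3 with h6 | h6
        · exact absurd ⟨rfl, by omega⟩ h3
        · exact h6) ((kill_of_lie hp hK).mulEquiv e))
    · obtain ⟨m, rfl⟩ : ∃ m, n = m + 2 := ⟨n - 2, by omega⟩
      exact row_of_kill3 hp hK e (PSU.kill3_psu hF (by omega) (fun h => h4 ⟨by omega, h.2⟩))

theorem row_isPOmegaOdd (hp : p.Prime) (h : IsPOmegaOddChar p K) : Row49 K := by
  have hK : IsLieTypeChar p K := Or.inr (Or.inr (Or.inr (Or.inl h)))
  obtain ⟨F, _, _, _, m, hm, hodd, ⟨e⟩⟩ := h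
  have : Fact p.Prime := ⟨hp⟩
  exact row_of_kill3 hp hK e (SpOrth.kill3_odd hodd hm)

theorem row_isPOmegaPlus (hp : p.Prime) (h : IsPOmegaPlusChar p K) : Row49 K := by
  have hK : IsLieTypeChar p K := Or.inr (Or.inr (Or.inr (Or.inr (Or.inl h))))
  obtain ⟨F, _, _, _, m, hm, ⟨e⟩⟩ := h
  have : Fact p.Prime := ⟨hp⟩
  exact row_of_kill3 hp hK e (SpOrth.kill3_plus hm)

theorem row_isPOmegaMinus (hp : p.Prime) (h : IsPOmegaMinusChar p K) : Row49 K := by
  have hK : IsLieTypeChar p K := Or.inr (Or.inr (Or.inr (Or.inr (Or.inr (Or.inl h)))))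
  obtain ⟨F, _, _, _, m, a, b, hm, hab, ⟨e⟩⟩ := h
  have : Fact p.Prime := ⟨hp⟩
  exact row_of_kill3 hp hK e (SpOrth.kill3_minus hm hab)

theorem row_exceptional (hp : p.Prime) (h : IsExceptionalChevChar p K) : Row49 K := by
  have hK : IsLieTypeChar p K := Or.inr (Or.inr (Or.inr (Or.inr (Or.inr (Or.inr (Or.inl h))))))
  have : Fact p.Prime := ⟨hp⟩
  obtain ⟨F, _, _, _, ⟨h3, ⟨e⟩⟩ | ⟨⟨e⟩⟩ | ⟨⟨e⟩⟩ | ⟨⟨e⟩⟩ | ⟨⟨e⟩⟩⟩ := h
  · exact row_of_kill3 hp hK e (Cfsg.Agent.H515.KillExc.kill3_G2 p h3)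
  · exact row_of_kill3 hp hK e (Cfsg.Agent.H515.KillExc.kill3_F4 p)
  · exact row_of_kill3 hp hK e (Cfsg.Agent.H515.KillExc.kill3_E6 p)
  · exact row_of_kill3 hp hK e (Cfsg.Agent.H515.KillExc.kill3_E7 p)
  · exact row_of_kill3 hp hK e (Cfsg.Agent.H515.KillExc.kill3_E8 p)

theorem row_twisted (hp : p.Prime) (h : IsTwistedE6D4Char p K) : Row49 K := by
  have hK : IsLieTypeChar p K := Or.inr (Or.inr (Or.inr (Or.inr (Or.inr (Or.inr (Or.inr (Or.inl h)))))))
  have : Fact p.Prime := ⟨hp⟩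
  obtain ⟨F, _, _, _, q, hq, ⟨hF, ⟨e⟩⟩ | ⟨hF, ⟨e⟩⟩⟩ := h
  · exact row_of_kill3 hp hK e (Cfsg.Agent.H515.KillExc.kill3_2E6 p hq hF)
  · by_cases h2 : q = 2
    · subst h2
      have hp2 : p = 2 := by
        have h8 : ((2 ^ 3 : ℕ) : F) = 0 := by rw [← hF]; exact FiniteField.cast_card_eq_zero F
        have h9 : p ∣ 2 ^ 3 := (CharP.cast_eq_zero_iff F p _).1 h8
        exact (Nat.prime_dvd_prime_iff_eq hp Nat.prime_two).1 (hp.dvd_of_dvd_pow h9)
      subst hp2
      exact row_of_tri e (Cfsg.Agent.H515.KillExc.tri_3D4_two hF ((kill_of_lie hp hK).mulEquiv e))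
    · have h3 : 3 ≤ q := by
        have := hq.two_le
        omega
      exact row_of_kill3 hp hK e (Cfsg.Agent.H515.KillExc.kill3_3D4 p hq hF h3)

theorem row_twF (h : Cfsg.Lie.Iso2F4 K) : Row49 K := by
  have hL : IsLieTypeChar 2 K := by
    unfold IsLieTypeChar
    tauto
  exact (tri_of_kill3 Nat.prime_two (dvd_card Nat.prime_two hL) (kill_of_lie Nat.prime_two hL)
    (RowTwF.kill3_twF h)).row49

/-- **The rows of the groups of Lie type.** -/
theorem row_lie (hp : p.Prime) (h : IsLieTypeChar p K) : Row49 K := by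
  rcases h with h | h | h | h | h | h | h | h | h | h | h
  · exact row_isPSL hp h
  · exact row_isPSp hp h
  · exact row_isPSU hp h
  · exact row_isPOmegaOdd hp h
  · exact row_isPOmegaPlus hp h
  · exact row_isPOmegaMinus hp h
  · exact row_exceptional hp h
  · exact row_twisted hp h
  · exact (tri_suzuki h.2).row49
  · exact row_twF h.2
  · exact (tri_ree h.2).row49

end Cfsg.Agent.H695.Lie.All
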