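import Cfsg.Agent.H695.RowFam
import Cfsg.Agent.H477.HC.Rows

/-!
# Killed primes from Harish-Chandra induction in the classical groups (helper695)

* `kill_down` : a character of `l`-defect zero of `I` gives a killed prime `l` of `N / Z(N)`, `N` normal in `I`;
* `dg_dz` : the degree `dg F k` of helper477 is of `l`-defect zero if `l` does not divide `(q^k-1) |F'.iso|`;
* `kill_psp`, `kill_odd`, `kill_plus`, `kill_minus`.
-/

set_option autoImplicit false

open scoped ComplexConjugate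
open Cfsg

namespace Cfsg.Agent.H695.Lie.Base

open Cfsg.Agent.Characters Cfsg.Agent.H620 Cfsg.Agent.H477.HC Module

universe u v w

/-- A prime `l` is killed on `N / Z(N)`, `N` normal in `I`, if `I` has a character of `l`-defect zero trivial on the
centre of `N`. -/
theorem kill_down {I : Type u} [Group I] [Finite I] (N : Subgroup I) [N.Normal] {χ : I → ℂ}
    (hχ : IsIrrCharacter I χ) {d : ℕ} (hd : χ 1 = d) (hz : ∀ z : N, z ∈ Subgroup.center N → χ z = χ 1)
    {l : ℕ} [hl : Fact l.Prime] (h : l ^ (Nat.card I).factorization l ∣ d) :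
    Kill (N ⧸ Subgroup.center N) l := by
  obtain ⟨θ, e, hθ, he, h3, h4, h5, h6⟩ := down_constituent N hχ hd
  obtain ⟨η, hη, hη'⟩ := exists_quot (Subgroup.center N) hθ fun z hzc => h6 z hzc (hz z hzc)
  have h7 : η 1 = e := by
    rw [← he, ← hη' 1]
    rfl
  have hd0 : d ≠ 0 := by
    rintro rfl
    rw [Nat.cast_zero] at hd
    exact Core.isIrr_apply_one_ne_zero hχ hd
  refine kill_of_dvd l hη e h7 ?_
  rw [hl.out.pow_dvd_iff_le_factorization h5.ne']
  rw [hl.out.pow_dvd_iff_le_factorization hd0] at h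
  obtain ⟨f, rfl⟩ := h3
  have hf0 : f ≠ 0 := by rintro rfl; simp at hd0
  rw [Nat.mul_div_cancel_left _ h5] at h4
  have hi0 : N.index ≠ 0 := Subgroup.index_ne_zero_of_finite
  have e1 : (Nat.card I).factorization l = (Nat.card N).factorization l + N.index.factorization l := by
    rw [← Subgroup.card_mul_index N, Nat.factorization_mul Nat.card_pos.ne' hi0, Finsupp.add_apply]
  have e2 : (e * f).factorization l = e.factorization l + f.factorization l := by
    rw [Nat.factorization_mul h5.ne' hf0, Finsupp.add_apply]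
  have e3 : f.factorization l ≤ N.index.factorization l := (Nat.factorization_le_iff_dvd hf0 hi0).2 h4 l
  have e4 : (Nat.card (N ⧸ Subgroup.center N)).factorization l ≤ (Nat.card N).factorization l :=
    (Nat.factorization_le_iff_dvd Nat.card_pos.ne' Nat.card_pos.ne').2 (Subgroup.card_quotient_dvd_card _) l
  omega

/-- The degree `dg F k` is of `l`-defect zero. -/
theorem dg_dz {K : Type u} [Field K] [Finite K] {V : Type v} [AddCommGroup V] [Module K V] {F : CForm K V}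
    {X : Type w} [AddCommGroup X] [Module K X] {F' : CForm K X} {k : ℕ} (hk : 0 < k) {p : ℕ} [Fact p.Prime]
    [CharP K p] [Finite F.iso]
    (h : ∃ a, Nat.card F.iso ∣ p ^ a * (Nat.card (F.Om k) * Nat.card (GL (Fin k) K) * Nat.card F'.iso))
    {l : ℕ} (hl : l.Prime) (hlp : l ≠ p) (h1 : ¬ l ∣ Nat.card K ^ k - 1) (h2 : ¬ l ∣ Nat.card F'.iso) :
    l ^ (Nat.card F.iso).factorization l ∣ dg F k := by
  obtain ⟨a, h⟩ := h
  obtain ⟨s, hs⟩ := card_GL_eq K k hk
  obtain ⟨t, ht⟩ := card_pow K p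
  have hp : p.Prime := Fact.out
  have h3 : Nat.card F.iso ∣ (p ^ a * p ^ (t * s) * (Nat.card K ^ k - 1) * Nat.card F'.iso) * dg F k := by
    refine h.trans (dvd_of_eq ?_)
    have h4 : p ^ (t * s) = Nat.card K ^ s := by rw [ht, ← pow_mul]
    rw [hs, h4]
    unfold dg
    ring
  have hlp' : ¬ l ∣ p := fun h => hlp ((Nat.prime_dvd_prime_iff_eq hl hp).1 h)
  have h5 : ¬ l ∣ p ^ a * p ^ (t * s) * (Nat.card K ^ k - 1) * Nat.card F'.iso := by
    intro h
    rcases hl.dvd_mul.1 h with h | h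
    · rcases hl.dvd_mul.1 h with h | h
      · rcases hl.dvd_mul.1 h with h | h
        · exact hlp' (hl.dvd_of_dvd_pow h)
        · exact hlp' (hl.dvd_of_dvd_pow h)
      · exact h1 h
    · exact h2 h
  exact (Nat.Coprime.pow_left _ ((Nat.Prime.coprime_iff_not_dvd hl).2 h5)).dvd_of_dvd_mul_left
    ((Nat.ordProj_dvd _ _).trans h3)

/-! ### the symplectic groups -/

/-- the trivial form -/
theorem card_spF_zero (K : Type u) [Field K] [Finite K] : Nat.card (CForm.spF K 0).iso = 1 := by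
  rw [card_spF]
  simp

theorem kill_psp (K : Type u) [Field K] [Finite K] {p : ℕ} [Fact p.Prime] [CharP K p] {k n : ℕ} (hk : 0 < k)
    (hc : ∃ c : GL (Fin k) K → ℂ, Cus K k (RingHom.id K) (fun z => z ^ 2 = 1) c)
    {l : ℕ} (hl : l.Prime) (hlp : l ≠ p) (h1 : ¬ l ∣ Nat.card K ^ k - 1)
    (h2 : ¬ l ∣ Nat.card (CForm.spF K n).iso) : Kill (PSp (k + n) K) l := by
  obtain ⟨c, hc⟩ := hc
  obtain ⟨χ, hχ, hχ1⟩ := psp_char (k := k) (n := n) hc (one_pow 2) (neg_one_sq)
  obtain ⟨-, h⟩ := CForm.spF_frame (K := K) (p := p) k n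
  have := finite_iso (CForm.spF K (k + n))
  have := Fact.mk hl
  refine kill_of_dvd l hχ _ hχ1 ((pow_dvd_pow l ?_).trans (dg_dz hk h hl hlp h1 h2))
  have h3 : Nat.card (PSp (k + n) K) ∣ Nat.card (CForm.spF K (k + n)).iso := by
    rw [← Nat.card_congr (isoSp (k + n) K).toEquiv]
    exact Subgroup.card_quotient_dvd_card _
  exact (Nat.factorization_le_iff_dvd Nat.card_pos.ne' Nat.card_pos.ne').2 h3 l

/-! ### the orthogonal groups -/

theorem kill_omega {ι : Type} [Fintype ι] [DecidableEq ι] {K : Type u} [Field K] [Finite K] (F : CForm K (ι → K))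
    (hB : ∀ u v, F.B u v = F.Q (u + v) - F.Q u - F.Q v) {k : ℕ} {W₀ : Submodule K (ι → K)} (hW₀ : W₀ ∈ F.Om k)
    {Z : Kˣ → Prop} {c : GL (Fin k) K → ℂ} (hc : Cus K k F.σ Z c)
    (hcen : ∀ z : Omega K F.Q, z ∈ Subgroup.center (Omega K F.Q) → ∃ a : Kˣ, Z a ∧ ∀ v, (omMat z).mulVec v = (a : K) • v)
    {l : ℕ} (hl : l.Prime) (hd : l ^ (Nat.card F.iso).factorization l ∣ dg F k) : Kill (POmega K F.Q) l := by
  obtain ⟨χ, hχ, hχ1, hχz⟩ := om_char F hB hW₀ hc
  have := Fact.mk hl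
  have hn : (Omega K F.Q).Normal := inferInstance
  refine kill_down (Omega K F.Q) hχ hχ1 (fun z hz => ?_) ?_
  · obtain ⟨a, ha, hv⟩ := hcen z hz
    exact hχz z a ha hv
  · rwa [Nat.card_congr (isoQuad F hB).toEquiv]

theorem kill_odd (K : Type u) [Field K] [Finite K] {p : ℕ} [Fact p.Prime] [CharP K p] (ho : Odd (Nat.card K))
    (h2 : (2 : K) ≠ 0) {k n : ℕ} (hm : 3 ≤ k + n) (hk : 0 < k)
    (hc : ∃ c : GL (Fin k) K → ℂ, Cus K k (RingHom.id K) (fun z => z ^ 1 = 1) c)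
    {l : ℕ} (hl : l.Prime) (hlp : l ≠ p) (h1 : ¬ l ∣ Nat.card K ^ k - 1)
    (h3 : ¬ l ∣ Nat.card (CForm.oddF K n h2).iso) : Kill (POmega K (quadFormOdd (k + n) K)) l := by
  obtain ⟨c, hc⟩ := hc
  obtain ⟨⟨W₀, hW₀⟩, h⟩ := CForm.oddF_frame (K := K) (p := p) h2 k n
  obtain ⟨hidx, hcen⟩ := odd_idx K (p := p) ho hm
  have := finite_iso (CForm.oddF K (k + n) h2)
  exact kill_omega (CForm.oddF K (k + n) h2) (odd_hB K (k + n) h2) hW₀ hc (fun z hz => ⟨1, one_pow 1, fun v => by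
    rw [hcen z hz]
    change (1 : Matrix _ _ K).mulVec v = _
    rw [Matrix.one_mulVec, Units.val_one, one_smul]⟩) hl (dg_dz hk h hl hlp h1 h3)

theorem kill_plus (K : Type u) [Field K] [Finite K] {p : ℕ} [Fact p.Prime] [CharP K p]
    {k n : ℕ} (hm : 2 ≤ k + n) (hk : 0 < k)
    (hc : ∃ c : GL (Fin k) K → ℂ, Cus K k (RingHom.id K) (fun z => z ^ 2 = 1) c)
    {l : ℕ} (hl : l.Prime) (hlp : l ≠ p) (h1 : ¬ l ∣ Nat.card K ^ k - 1)
    (h3 : ¬ l ∣ Nat.card (CForm.plusF K n).iso) : Kill (POmega K (quadFormPlus (k + n) K)) l := by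
  obtain ⟨c, hc⟩ := hc
  obtain ⟨⟨W₀, hW₀⟩, h⟩ := CForm.plusF_frame (K := K) (p := p) k n
  have := finite_iso (CForm.plusF K (k + n))
  exact kill_omega (CForm.plusF K (k + n)) (plus_hB K (k + n)) hW₀ hc
    (fun z hz => scal_of (cen_plus K hm z hz)) hl (dg_dz hk h hl hlp h1 h3)

theorem kill_minus (K : Type u) [Field K] [Finite K] {p : ℕ} [Fact p.Prime] [CharP K p] (a b : K)
    (hab : ∀ z₁ z₂ : K, z₁ ^ 2 + a * z₁ * z₂ + b * z₂ ^ 2 = 0 → z₁ = 0 ∧ z₂ = 0)
    {k n : ℕ} (hm : 1 ≤ k + n) (hk : 0 < k)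
    (hc : ∃ c : GL (Fin k) K → ℂ, Cus K k (RingHom.id K) (fun z => z ^ 2 = 1) c)
    {l : ℕ} (hl : l.Prime) (hlp : l ≠ p) (h1 : ¬ l ∣ Nat.card K ^ k - 1)
    (h3 : ¬ l ∣ Nat.card (CForm.minusF K n a b hab).iso) : Kill (POmega K (quadFormMinus (k + n) K a b)) l := by
  obtain ⟨c, hc⟩ := hc
  obtain ⟨⟨W₀, hW₀⟩, h⟩ := CForm.minusF_frame (K := K) (p := p) hab k n
  have := finite_iso (CForm.minusF K (k + n) a b hab)
  exact kill_omega (CForm.minusF K (k + n) a b hab) (minus_hB K (k + n) a b hab) hW₀ hc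
    (fun z hz => scal_of (cen_minus K hm a b hab z hz)) hl (dg_dz hk h hl hlp h1 h3)

end Cfsg.Agent.H695.Lie.Base
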