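import Cfsg.Agent.H664.R1.Split
import Cfsg.Agent.H713.Van

/-!
# Zeros of the principal series in groups with a split BN pair of rank one (helper695)
-/

set_option autoImplicit false

open Cfsg

namespace Cfsg.Agent.H695.Lie.RankOne

open Cfsg.Agent.H664.R1 Cfsg.Agent.H664.R1.Split Cfsg.Agent.Characters.Core Cfsg.Agent.H713

universe u

variable {G : Type u} [Group G] (D : Split G)

theorem indFun_eq_zero [Fintype G] {H : Subgroup G} {θ : H → ℂ} {x : G} (h : ∀ g : G, g⁻¹ * x * g ∉ H) :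
    indFun H θ x = 0 := by
  unfold indFun
  rw [Finset.sum_eq_zero, mul_zero]
  intro g _
  unfold extendByZero
  rw [Function.extend_apply' _ _ _ (by
    rintro ⟨a, ha⟩
    exact h g (ha ▸ a.2))]
  rfl

/-- `N(U) = B`. -/
theorem mem_B_of_normalizes (hU1 : ∃ u ∈ D.U, u ≠ 1) {y : G} (hy : ∀ u ∈ D.U, y * u * y⁻¹ ∈ D.U) : y ∈ D.B := by
  by_contra hcon
  have h1 : y⁻¹ ∉ D.B := fun h => hcon (by simpa using D.B.inv_mem h)
  obtain ⟨⟨u, b⟩, hub⟩ := D.cellEquiv.surjective ⟨y⁻¹, h1⟩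
  have h2 : (u : G) * D.w * b = y⁻¹ := congrArg Subtype.val hub
  obtain ⟨v, hv, hv1⟩ := hU1
  refine hv1 (D.eq_one_of_conj b.2 u.2 hv (b := b) (u := u) ?_)
  rw [h2, inv_inv]
  exact D.UB (hy v hv)

theorem vz [Fintype G] {p : ℕ} [hp : Fact p.Prime] {k : ℕ} (hU : Nat.card D.U = p ^ k) (hk : k ≠ 0)
    (hT : ¬ p ∣ Nat.card D.T) {f : D.B →* ℂˣ} (hirr : IsIrrCharacter G (D.ps f)) {x : G}
    (hx : ∀ g : G, g⁻¹ * x * g ∉ D.B) : VZ G x := by
  have hU1 : ∃ u ∈ D.U, u ≠ 1 := by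
    by_contra hcon
    push Not at hcon
    have h1 : D.U = ⊥ := (Subgroup.eq_bot_iff_forall _).2 hcon
    rw [h1, Subgroup.card_bot] at hU
    have := Nat.one_lt_pow hk hp.out.one_lt
    omega
  refine ⟨⟨D.ps f, hirr⟩, fun σ => ?_⟩
  change D.ps f (σ x) = 0
  rw [D.ps_def]
  refine indFun_eq_zero fun g hg => ?_
  -- `U` and its image are Sylow subgroups
  have hcard : Nat.card D.U = p ^ (Nat.card G).factorization p := by
    have h1 : (Nat.card G).factorization p = k := by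
      rw [D.card_G, D.card_B, hU]
      have h2 : ¬ p ∣ (p ^ k + 1) * Nat.card D.T := by
        intro h
        rcases hp.out.dvd_mul.1 h with h3 | h3
        · have h4 := (Nat.dvd_add_right (dvd_pow_self p hk)).1 h3
          exact hp.out.one_lt.ne' (Nat.dvd_one.1 h4)
        · exact hT h3
      have e1 : (p ^ k + 1) * (p ^ k * Nat.card D.T) = p ^ k * ((p ^ k + 1) * Nat.card D.T) := by ring
      have h0 : (p ^ k + 1) * Nat.card D.T ≠ 0 := fun h => h2 (h ▸ dvd_zero p)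
      rw [e1, Nat.factorization_mul (pow_ne_zero _ hp.out.ne_zero) h0, Finsupp.add_apply,
        Nat.factorization_eq_zero_of_not_dvd h2, add_zero, hp.out.factorization_pow, Finsupp.single_eq_same]
    rw [hU, h1]
  let P : Sylow p G := Sylow.ofCard D.U hcard
  let τ : MulAut G := σ⁻¹ * MulAut.conj g
  let Q₀ : Subgroup G := D.U.map (τ : G →* G)
  have hQcard : Nat.card Q₀ = p ^ (Nat.card G).factorization p := by
    rw [← hcard]
    exact (Nat.card_congr (D.U.equivMapOfInjective (τ : G →* G) τ.injective).toEquiv).symm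
  let Q : Sylow p G := Sylow.ofCard Q₀ hQcard
  obtain ⟨h, hh⟩ := MulAction.exists_smul_eq G P Q
  have hmem : ∀ y : G, y ∈ Q₀ ↔ ∃ u ∈ D.U, h * u * h⁻¹ = y := by
    intro y
    have h1 : Q₀ = (h • P : Sylow p G).toSubgroup := by rw [hh]; rfl
    rw [h1, Sylow.coe_subgroup_smul, Subgroup.mem_pointwise_smul_iff_inv_smul_mem]
    constructor
    · intro h2
      refine ⟨_, h2, ?_⟩
      change h * ((MulAut.conj h)⁻¹ y) * h⁻¹ = y
      rw [← map_inv, MulAut.conj_apply]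
      group
    · rintro ⟨u, hu, rfl⟩
      change (MulAut.conj h)⁻¹ (h * u * h⁻¹) ∈ D.U
      rw [← map_inv, MulAut.conj_apply]
      have : h⁻¹ * (h * u * h⁻¹) * h⁻¹⁻¹ = u := by group
      rwa [this]
  refine hx h (mem_B_of_normalizes D hU1 fun u hu => ?_)
  obtain ⟨u', hu', hu''⟩ : ∃ u' ∈ D.U, σ⁻¹ (g * u' * g⁻¹) = h * u * h⁻¹ := by
    have h1 : h * u * h⁻¹ ∈ Q₀ := (hmem _).2 ⟨u, hu, rfl⟩
    obtain ⟨u', h2, h3⟩ := h1
    exact ⟨u', h2, h3⟩
  have h4 : x * (h * u * h⁻¹) * x⁻¹ ∈ Q₀ := by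
    refine ⟨(g⁻¹ * σ x * g) * u' * (g⁻¹ * σ x * g)⁻¹, D.nU _ hg _ hu', ?_⟩
    change σ⁻¹ (g * ((g⁻¹ * σ x * g) * u' * (g⁻¹ * σ x * g)⁻¹) * g⁻¹) = _
    have e1 : g * ((g⁻¹ * σ x * g) * u' * (g⁻¹ * σ x * g)⁻¹) * g⁻¹ = σ x * (g * u' * g⁻¹) * (σ x)⁻¹ := by group
    rw [e1, map_mul, map_mul, map_inv, hu'']
    have e2 : σ⁻¹ (σ x) = x := σ.symm_apply_apply x
    rw [e2]
  obtain ⟨v, hv, hv'⟩ := (hmem _).1 h4
  have e3 : h⁻¹ * x * h * u * (h⁻¹ * x * h)⁻¹ = v := by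
    have : h⁻¹ * x * h * u * (h⁻¹ * x * h)⁻¹ = h⁻¹ * (x * (h * u * h⁻¹) * x⁻¹) * h := by group
    rw [this, ← hv']
    group
  rw [e3]
  exact hv

end Cfsg.Agent.H695.Lie.RankOne
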