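import Cfsg.Agent.H695.Lie.Base
import Cfsg.Agent.H620.RowSp
import Cfsg.Agent.H620.RowOm

/-!
# Three killed primes for `PSp_{2m}(q)`, `m ≥ 3`, and the orthogonal groups (helper695)
-/

set_option autoImplicit false

open Cfsg

namespace Cfsg.Agent.H695.Lie.SpOrth

open Cfsg.Agent.H620 Cfsg.Agent.H477.HC Cfsg.Agent.H695.Lie.Base Cfsg.Agent.H620.RowSz

/-- `l` is a prime and `q` has order `e` modulo `l`. -/
structure Prm (q l e : ℕ) : Prop where
  prime : l.Prime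
  iff : ∀ m, l ∣ q ^ m - 1 ↔ e ∣ m
  nd : ¬ l ∣ q

theorem exists_prm {q e : ℕ} (hq : 2 ≤ q) (he : 2 ≤ e) (h2 : e = 2 → ¬ ∃ k, q + 1 = 2 ^ k)
    (h6 : ¬ (q = 2 ∧ e = 6)) : ∃ l, Prm q l e := by
  obtain ⟨l, hl, h1, -, h3⟩ := Cfsg.Agent.Lib.Zsigmondy.exists_primitive hq he h2 h6
  exact ⟨l, hl, h1, h3⟩

theorem Prm.ne {q l l' e e' : ℕ} (h : Prm q l e) (h' : Prm q l' e') (hne : e ≠ e') : l ≠ l' := by
  rintro rfl
  apply hne
  exact Nat.dvd_antisymm ((h.iff e').1 ((h'.iff e').2 dvd_rfl)) ((h'.iff e).1 ((h.iff e).2 dvd_rfl))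

theorem Prm.ne_two {q l e : ℕ} (h : Prm q l e) (he : 2 ≤ e) : l ≠ 2 := by
  rintro rfl
  have h1 : 2 ∣ q - 1 := by
    rcases Nat.even_or_odd q with h2 | h2
    · exact absurd h2.two_dvd h.nd
    · obtain ⟨k, hk⟩ := h2
      exact ⟨k, by omega⟩
  have h3 := Nat.dvd_one.1 ((h.iff 1).1 (by rwa [pow_one]))
  omega

theorem Prm.not_dvd_sub {q l e : ℕ} (h : Prm q l e) (he : 2 ≤ e) : ¬ l ∣ q - 1 := by
  intro h1
  have h3 := Nat.dvd_one.1 ((h.iff 1).1 (by rwa [pow_one]))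
  omega

theorem Prm.not_dvd_add {q l e : ℕ} (h : Prm q l e) (he : 3 ≤ e) : ¬ l ∣ q + 1 := by
  intro h1
  have h2 : l ∣ q ^ 2 - 1 := by
    have : q ^ 2 - 1 = (q + 1) * (q - 1) := by rw [← one_pow 2, Nat.sq_sub_sq, one_pow]
    rw [this]
    exact h1.mul_right _
  have h3 := Nat.le_of_dvd (by norm_num) ((h.iff 2).1 h2)
  omega

theorem Prm.not_dvd_two {q l e : ℕ} (h : Prm q l e) (he : 2 ≤ e) : ¬ l ∣ 2 := fun h1 =>
  h.ne_two he ((Nat.prime_dvd_prime_iff_eq h.prime Nat.prime_two).1 h1)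

theorem Prm.not_dvd_gcd_four {q l e : ℕ} (h : Prm q l e) (he : 2 ≤ e) (x : ℕ) : ¬ l ∣ Nat.gcd 4 x := fun h1 =>
  h.not_dvd_two he (h.prime.dvd_of_dvd_pow (n := 2) (h1.trans ((Nat.gcd_dvd_left 4 x).trans (by norm_num))))

theorem Prm.ne_char {K : Type*} [Field K] [Finite K] {p : ℕ} [Fact p.Prime] [CharP K p] {l e : ℕ}
    (h : Prm (Nat.card K) l e) : l ≠ p := by
  rintro rfl
  obtain ⟨s, hs⟩ := card_pow K l
  have h1 : 1 < Nat.card K := Finite.one_lt_card
  have h2 : s ≠ 0 := by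
    rintro rfl
    rw [pow_zero] at hs
    omega
  apply h.nd
  rw [hs]
  exact dvd_pow_self l h2

theorem dvd_prod {q l e m : ℕ} (h : Prm q l e) {i : ℕ} (h1 : 1 ≤ i) (hi : i ≤ m) (hd : e ∣ 2 * i) :
    l ∣ ∏ i ∈ Finset.range m, (q ^ (2 * (i + 1)) - 1) := by
  refine Dvd.dvd.trans ?_ (Finset.dvd_prod_of_mem _ (Finset.mem_range.2 (show i - 1 < m by omega)))
  rw [h.iff]
  have : i - 1 + 1 = i := by omega
  rwa [this]

/-! ### the symplectic groups -/

section

variable {F : Type} [Field F] [Fintype F] {p : ℕ} [hp : Fact p.Prime] [CharP F p]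

include hp in
theorem psp_prime {m e l : ℕ} (hm : 3 ≤ m) (h : Prm (Fintype.card F) l e) (he : 2 ≤ e) (hem : ¬ e ∣ m) {i : ℕ}
    (h1 : 1 ≤ i) (hi : i ≤ m) (hd : e ∣ 2 * i) : Kill (PSp m F) l ∧ l ∣ Nat.card (PSp m F) := by
  have h' : Prm (Nat.card F) l e := by rwa [Nat.card_eq_fintype_card]
  constructor
  · refine kill_psp F (p := p) (k := m) (n := 0) (by omega)
      (exists_cus_sq F rfl m (by omega) (fun _ => hm) (fun _ => hm) (fun _ => by omega)) h.prime h'.ne_char ?_ ?_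
    · rwa [h'.iff]
    · rw [card_spF_zero]
      exact h.prime.one_lt.ne' ∘ Nat.dvd_one.1
  · have h2 := RowSp.card_pos' (F := F) (m := m) (by omega)
    have h3 : l ∣ Nat.gcd 2 (Fintype.card F - 1) * Nat.card (PSp m F) := by
      rw [h2]
      exact Dvd.dvd.mul_left (dvd_prod h h1 hi hd) _
    refine (h.prime.dvd_mul.1 h3).resolve_left fun h4 => ?_
    exact h.not_dvd_two he (h4.trans (Nat.gcd_dvd_left _ _))

include hp in
theorem kill3_psp {m : ℕ} (hm : 3 ≤ m) : Kill3 (PSp m F) p := by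
  have hq : 2 ≤ Fintype.card F := Fintype.one_lt_card
  have key : ∀ {e e' i i' : ℕ}, e ≠ e' → 2 ≤ e → 2 ≤ e' → ¬ e ∣ m → ¬ e' ∣ m → 1 ≤ i → i ≤ m → e ∣ 2 * i →
      1 ≤ i' → i' ≤ m → e' ∣ 2 * i' → (∃ l, Prm (Fintype.card F) l e) → (∃ l, Prm (Fintype.card F) l e') →
      Kill3 (PSp m F) p := by
    rintro e e' i i' hne h2 h2' hm1 hm2 a1 a2 a3 b1 b2 b3 ⟨l, hl⟩ ⟨k, hk⟩
    obtain ⟨c1, c2⟩ := psp_prime (p := p) hm hl h2 hm1 a1 a2 a3
    obtain ⟨d1, d2⟩ := psp_prime (p := p) hm hk h2' hm2 b1 b2 b3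
    have hl' : Prm (Nat.card F) l e := by rwa [Nat.card_eq_fintype_card]
    have hk' : Prm (Nat.card F) k e' := by rwa [Nat.card_eq_fintype_card]
    exact ⟨l, k, hl.prime, hk.prime, hl.ne hk hne, hl'.ne_char, hk'.ne_char, c2, d2, c1, d1⟩
  have nd : ∀ {a b : ℕ}, 0 < b → b < a → ¬ a ∣ b := fun h1 h2 h3 => by
    have := Nat.le_of_dvd h1 h3
    omega
  by_cases h3 : m = 3 ∧ Fintype.card F = 2
  · obtain ⟨rfl, hF⟩ := h3
    refine key (e := 4) (e' := 2) (i := 2) (i' := 1) (by norm_num) (by norm_num) (by norm_num) (by norm_num)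
      (by norm_num) (by norm_num) (by norm_num) (by norm_num) (by norm_num) (by norm_num) (by norm_num)
      (exists_prm hq (by norm_num) (by norm_num) (by norm_num)) (exists_prm hq (by norm_num) ?_ (by norm_num))
    rintro - ⟨k, hk⟩
    rw [hF] at hk
    rcases Nat.lt_or_ge k 2 with h | h
    · interval_cases k <;> norm_num at hk
    · have : 2 ^ 2 ≤ 2 ^ k := Nat.pow_le_pow_right (by norm_num) h
      omega
  by_cases h4 : m = 4 ∧ Fintype.card F = 2
  · obtain ⟨rfl, hF⟩ := h4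
    exact key (e := 8) (e' := 3) (i := 4) (i' := 3) (by norm_num) (by norm_num) (by norm_num) (by norm_num)
      (by norm_num) (by norm_num) (by norm_num) (by norm_num) (by norm_num) (by norm_num) (by norm_num)
      (exists_prm hq (by norm_num) (by norm_num) (by norm_num)) (exists_prm hq (by norm_num) (by norm_num) (by norm_num))
  · exact key (e := 2 * m) (e' := 2 * (m - 1)) (i := m) (i' := m - 1) (by omega) (by omega) (by omega)
      (nd (by omega) (by omega)) (nd (by omega) (by omega)) (by omega) le_rfl dvd_rfl (by omega) (by omega) dvd_rfl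
      (exists_prm hq (by omega) (by omega) (by omega)) (exists_prm hq (by omega) (by omega) (by omega))

/-! ### the orthogonal groups -/

include hp in
theorem odd_prime {m e l : ℕ} (ho : Odd (Fintype.card F)) (hm : 3 ≤ m) (h : Prm (Fintype.card F) l e) (he : 2 ≤ e)
    (hem : ¬ e ∣ m) {i : ℕ} (h1 : 1 ≤ i) (hi : i ≤ m) (hd : e ∣ 2 * i) :
    Kill (POmega F (quadFormOdd m F)) l ∧ l ∣ Nat.card (POmega F (quadFormOdd m F)) := by
  have h' : Prm (Nat.card F) l e := by rwa [Nat.card_eq_fintype_card]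
  have ho' : Odd (Nat.card F) := by rwa [Nat.card_eq_fintype_card]
  have h2F := two_ne_zero_of_odd (K := F) (p := p) ho'
  have hq3 : 3 ≤ Nat.card F := by
    have : 1 < Nat.card F := Finite.one_lt_card
    rcases ho' with ⟨j, hj⟩
    omega
  constructor
  · refine kill_odd F (p := p) ho' h2F (k := m) (n := 0) (by omega) (by omega)
      (exists_cus_one (K := F) rfl m (by omega) ?_ (by rintro ⟨h3, -⟩; omega)) h.prime h'.ne_char ?_ ?_
    · have : Nat.card F ^ 2 ≤ Nat.card F ^ m := Nat.pow_le_pow_right (by omega) (by omega)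
      nlinarith
    · rwa [h'.iff]
    · rw [card_oddF F h2F ho']
      simpa using h.not_dvd_two he
  · have h2 := Cfsg.Agent.S0292.result (F := F) rfl ho m hm
    have h3 : l ∣ 2 * Nat.card (POmega F (quadFormOdd m F)) := by
      rw [h2]
      exact Dvd.dvd.mul_left (dvd_prod h h1 hi hd) _
    exact (h.prime.dvd_mul.1 h3).resolve_left (h.not_dvd_two he)

include hp in
theorem kill3_odd {m : ℕ} (ho : Odd (Fintype.card F)) (hm : 3 ≤ m) : Kill3 (POmega F (quadFormOdd m F)) p := by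
  have hq : 2 ≤ Fintype.card F := Fintype.one_lt_card
  have hq2 : Fintype.card F ≠ 2 := by
    intro h
    rw [h] at ho
    exact absurd ho (by decide)
  obtain ⟨l, hl⟩ := exists_prm (q := Fintype.card F) (e := 2 * m) hq (by omega) (by omega) (by omega)
  obtain ⟨k, hk⟩ := exists_prm (q := Fintype.card F) (e := 2 * (m - 1)) hq (by omega) (by omega) (by omega)
  have nd : ∀ {a b : ℕ}, 0 < b → b < a → ¬ a ∣ b := fun h1 h2 h3 => by
    have := Nat.le_of_dvd h1 h3
    omega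
  obtain ⟨c1, c2⟩ := odd_prime (p := p) ho hm hl (by omega) (nd (by omega) (by omega)) (i := m) (by omega) le_rfl dvd_rfl
  obtain ⟨d1, d2⟩ := odd_prime (p := p) ho hm hk (by omega) (nd (by omega) (by omega)) (i := m - 1) (by omega)
    (by omega) dvd_rfl
  have hl' : Prm (Nat.card F) l (2 * m) := by rwa [Nat.card_eq_fintype_card]
  have hk' : Prm (Nat.card F) k (2 * (m - 1)) := by rwa [Nat.card_eq_fintype_card]
  exact ⟨l, k, hl.prime, hk.prime, hl.ne hk (by omega), hl'.ne_char, hk'.ne_char, c2, d2, c1, d1⟩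

include hp in
theorem plus_prime {m e l : ℕ} (hm : 4 ≤ m) (h : Prm (Fintype.card F) l e) (he : 2 ≤ e)
    (hem : ¬ e ∣ m - 1) (hd : e ∣ m ∨ ∃ i, 1 ≤ i ∧ i ≤ m - 1 ∧ e ∣ 2 * i) :
    Kill (POmega F (quadFormPlus m F)) l ∧ l ∣ Nat.card (POmega F (quadFormPlus m F)) := by
  have h' : Prm (Nat.card F) l e := by rwa [Nat.card_eq_fintype_card]
  constructor
  · obtain ⟨k, rfl⟩ : ∃ k, m = k + 1 := ⟨m - 1, by omega⟩
    rw [Nat.add_sub_cancel] at hem
    refine kill_plus F (p := p) (k := k) (n := 1) (by omega) (by omega)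
      (exists_cus_sq F rfl k (by omega) (fun _ => by omega) (fun _ => by omega) (fun _ => by omega)) h.prime
      h'.ne_char ?_ ?_
    · rwa [h'.iff]
    · rw [card_plusF F le_rfl]
      simp only [Nat.sub_self, mul_zero, pow_zero, mul_one, pow_one, Finset.range_zero, Finset.prod_empty]
      intro h3
      rcases h.prime.dvd_mul.1 h3 with h4 | h4
      · exact h.not_dvd_two he h4
      · exact h'.not_dvd_sub he h4
  · have h2 := Cfsg.Agent.S0293.result (F := F) rfl m hm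
    have h3 : l ∣ Nat.gcd 4 (Fintype.card F ^ m - 1) * Nat.card (POmega F (quadFormPlus m F)) := by
      rw [h2]
      rcases hd with hd | ⟨i, h1, hi, hd⟩
      · exact Dvd.dvd.mul_right (Dvd.dvd.mul_left ((h.iff m).2 hd) _) _
      · exact Dvd.dvd.mul_left (dvd_prod h h1 hi hd) _
    exact (h.prime.dvd_mul.1 h3).resolve_left (h.not_dvd_gcd_four he _)

include hp in
theorem kill3_plus {m : ℕ} (hm : 4 ≤ m) : Kill3 (POmega F (quadFormPlus m F)) p := by
  have hq : 2 ≤ Fintype.card F := Fintype.one_lt_card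
  have key : ∀ {e e' : ℕ}, e ≠ e' → 2 ≤ e → 2 ≤ e' → ¬ e ∣ m - 1 → ¬ e' ∣ m - 1 →
      (e ∣ m ∨ ∃ i, 1 ≤ i ∧ i ≤ m - 1 ∧ e ∣ 2 * i) → (e' ∣ m ∨ ∃ i, 1 ≤ i ∧ i ≤ m - 1 ∧ e' ∣ 2 * i) →
      (∃ l, Prm (Fintype.card F) l e) → (∃ l, Prm (Fintype.card F) l e') →
      Kill3 (POmega F (quadFormPlus m F)) p := by
    rintro e e' hne h2 h2' hm1 hm2 a b ⟨l, hl⟩ ⟨k, hk⟩
    obtain ⟨c1, c2⟩ := plus_prime (p := p) hm hl h2 hm1 a
    obtain ⟨d1, d2⟩ := plus_prime (p := p) hm hk h2' hm2 b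
    have hl' : Prm (Nat.card F) l e := by rwa [Nat.card_eq_fintype_card]
    have hk' : Prm (Nat.card F) k e' := by rwa [Nat.card_eq_fintype_card]
    exact ⟨l, k, hl.prime, hk.prime, hl.ne hk hne, hl'.ne_char, hk'.ne_char, c2, d2, c1, d1⟩
  have nd : ∀ {a b : ℕ}, 0 < b → b < a → ¬ a ∣ b := fun h1 h2 h3 => by
    have := Nat.le_of_dvd h1 h3
    omega
  by_cases h3 : m = 4 ∧ Fintype.card F = 2
  · obtain ⟨rfl, hF⟩ := h3
    refine key (e := 4) (e' := 2) (by norm_num) (by norm_num) (by norm_num) (by norm_num)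
      (by norm_num) (Or.inl dvd_rfl) (Or.inl (by norm_num))
      (exists_prm hq (by norm_num) (by norm_num) (by norm_num)) (exists_prm hq (by norm_num) ?_ (by norm_num))
    rintro - ⟨k, hk⟩
    rw [hF] at hk
    rcases Nat.lt_or_ge k 2 with h | h
    · interval_cases k <;> norm_num at hk
    · have : 2 ^ 2 ≤ 2 ^ k := Nat.pow_le_pow_right (by norm_num) h
      omega
  by_cases h4 : m = 5 ∧ Fintype.card F = 2
  · obtain ⟨rfl, hF⟩ := h4
    exact key (e := 8) (e' := 5) (by norm_num) (by norm_num) (by norm_num) (by norm_num)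
      (by norm_num) (Or.inr ⟨4, by norm_num⟩) (Or.inl dvd_rfl)
      (exists_prm hq (by norm_num) (by norm_num) (by norm_num)) (exists_prm hq (by norm_num) (by norm_num) (by norm_num))
  · exact key (e := 2 * (m - 1)) (e' := 2 * (m - 2)) (by omega) (by omega) (by omega)
      (nd (by omega) (by omega)) (nd (by omega) (by omega)) (Or.inr ⟨m - 1, by omega, le_rfl, dvd_rfl⟩)
      (Or.inr ⟨m - 2, by omega, by omega, dvd_rfl⟩)
      (exists_prm hq (by omega) (by omega) (by omega)) (exists_prm hq (by omega) (by omega) (by omega))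

include hp in
theorem minus_prime {m e l : ℕ} (hm : 4 ≤ m) {a b : F}
    (hab : ∀ z₁ z₂ : F, z₁ ^ 2 + a * z₁ * z₂ + b * z₂ ^ 2 = 0 → z₁ = 0 ∧ z₂ = 0)
    (h : Prm (Fintype.card F) l e) (he : 3 ≤ e)
    (hem : ¬ e ∣ m - 1) (hd : e = 2 * m ∨ ∃ i, 1 ≤ i ∧ i ≤ m - 1 ∧ e ∣ 2 * i) :
    Kill (POmega F (quadFormMinus (m - 1) F a b)) l ∧ l ∣ Nat.card (POmega F (quadFormMinus (m - 1) F a b)) := by
  have h' : Prm (Nat.card F) l e := by rwa [Nat.card_eq_fintype_card]
  constructor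
  · refine kill_minus F (p := p) a b hab (k := m - 1) (n := 0) (by omega) (by omega)
      (exists_cus_sq F rfl (m - 1) (by omega) (fun _ => by omega) (fun _ => by omega) (fun _ => by omega)) h.prime
      h'.ne_char ?_ ?_
    · rwa [h'.iff]
    · rw [card_minusF F 0 a b hab]
      simp only [mul_zero, pow_zero, mul_one, zero_add, pow_one, Finset.range_zero, Finset.prod_empty]
      intro h3
      rcases h.prime.dvd_mul.1 h3 with h4 | h4
      · exact h.not_dvd_two (by omega) h4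
      · exact h'.not_dvd_add he h4
  · have h2 := Cfsg.Agent.S0294.result (F := F) rfl m hm a b hab
    have h3 : l ∣ Nat.gcd 4 (Fintype.card F ^ m + 1) * Nat.card (POmega F (quadFormMinus (m - 1) F a b)) := by
      rw [h2]
      rcases hd with hd | ⟨i, h1, hi, hd⟩
      · refine Dvd.dvd.mul_right (Dvd.dvd.mul_left ?_ _) _
        have h4 : l ∣ Fintype.card F ^ (2 * m) - 1 := (h.iff _).2 (by rw [hd])
        rw [sq_sub] at h4
        refine (h.prime.dvd_mul.1 h4).resolve_right fun h5 => ?_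
        have := Nat.le_of_dvd (by omega) ((h.iff _).1 h5)
        omega
      · exact Dvd.dvd.mul_left (dvd_prod h h1 hi hd) _
    exact (h.prime.dvd_mul.1 h3).resolve_left (h.not_dvd_gcd_four (by omega) _)

include hp in
theorem kill3_minus {m : ℕ} (hm : 4 ≤ m) {a b : F}
    (hab : ∀ z₁ z₂ : F, z₁ ^ 2 + a * z₁ * z₂ + b * z₂ ^ 2 = 0 → z₁ = 0 ∧ z₂ = 0) :
    Kill3 (POmega F (quadFormMinus (m - 1) F a b)) p := by
  have hq : 2 ≤ Fintype.card F := Fintype.one_lt_card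
  have key : ∀ {e e' : ℕ}, e ≠ e' → 3 ≤ e → 3 ≤ e' → ¬ e ∣ m - 1 → ¬ e' ∣ m - 1 →
      (e = 2 * m ∨ ∃ i, 1 ≤ i ∧ i ≤ m - 1 ∧ e ∣ 2 * i) → (e' = 2 * m ∨ ∃ i, 1 ≤ i ∧ i ≤ m - 1 ∧ e' ∣ 2 * i) →
      (∃ l, Prm (Fintype.card F) l e) → (∃ l, Prm (Fintype.card F) l e') →
      Kill3 (POmega F (quadFormMinus (m - 1) F a b)) p := by
    rintro e e' hne h2 h2' hm1 hm2 a b ⟨l, hl⟩ ⟨k, hk⟩
    obtain ⟨c1, c2⟩ := minus_prime (p := p) hm hab hl h2 hm1 a
    obtain ⟨d1, d2⟩ := minus_prime (p := p) hm hab hk h2' hm2 b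
    have hl' : Prm (Nat.card F) l e := by rwa [Nat.card_eq_fintype_card]
    have hk' : Prm (Nat.card F) k e' := by rwa [Nat.card_eq_fintype_card]
    exact ⟨l, k, hl.prime, hk.prime, hl.ne hk hne, hl'.ne_char, hk'.ne_char, c2, d2, c1, d1⟩
  have nd : ∀ {a b : ℕ}, 0 < b → b < a → ¬ a ∣ b := fun h1 h2 h3 => by
    have := Nat.le_of_dvd h1 h3
    omega
  by_cases h4 : m = 4 ∧ Fintype.card F = 2
  · obtain ⟨rfl, hF⟩ := h4
    exact key (e := 8) (e' := 4) (by norm_num) (by norm_num) (by norm_num) (by norm_num)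
      (by norm_num) (Or.inl rfl) (Or.inr ⟨2, by norm_num⟩)
      (exists_prm hq (by norm_num) (by norm_num) (by norm_num)) (exists_prm hq (by norm_num) (by norm_num) (by norm_num))
  · exact key (e := 2 * m) (e' := 2 * (m - 1)) (by omega) (by omega) (by omega)
      (nd (by omega) (by omega)) (nd (by omega) (by omega)) (Or.inl rfl)
      (Or.inr ⟨m - 1, by omega, le_rfl, dvd_rfl⟩)
      (exists_prm hq (by omega) (by omega) (by omega)) (exists_prm hq (by omega) (by omega) (by omega))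

end

end Cfsg.Agent.H695.Lie.SpOrth
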