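import Cfsg.Agent.H113.PSU.Rank3
import Cfsg.Agent.ClassicalGeometry.SympFrames
import Cfsg.Agent.ClassicalGeometry.SympInvolutions
import Cfsg.Agent.ClassicalGeometry.SympAutSemi
import Cfsg.Agent.S0768
import Cfsg.Agent.H477.HC.Groups

/-!
# The rank three action of `Sp_{2m}(q)` on the points (helper695)

* `r3` : rank three with subdegrees `1, q b, q^(2m-1)`, `(q - 1) b = q^(2m-2) - 1`.
* `exists_chars_two` : the characters of degrees `q (q+1)² / 2`, `q (q²+1) / 2` of `PSp_4(q)`.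
-/

set_option autoImplicit false
set_option linter.unusedSectionVars false

open Cfsg
open scoped LinearAlgebra.Projectivization

namespace Cfsg.Agent.H695.Lie.SpPoints

open Cfsg.Agent.ClassicalGeometry Cfsg.Agent.ClassicalGeometry.SympBasic Cfsg.Agent.ClassicalGeometry.SympAutSemi
open Cfsg.Agent.H690.Spor.RankThree Cfsg.Agent.H690.Spor.RankThree.R3

variable {F : Type*} [Field F] {m : ℕ}

local notation "V" => (Fin m ⊕ Fin m → F)
local notation "G" => Matrix.symplecticGroup (Fin m) F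
local notation "f" => sympForm m F

/-- the linear map of an element -/
def lin (A : G) : V →ₗ[F] V := Matrix.mulVecLin (A : Matrix (Fin m ⊕ Fin m) (Fin m ⊕ Fin m) F)

theorem lin_apply (A : G) (v : V) : lin A v = (A : Matrix (Fin m ⊕ Fin m) (Fin m ⊕ Fin m) F).mulVec v := rfl

theorem lin_injective (A : G) : Function.Injective (lin A) := fun _ _ h => (rho m F A).injective h

/-- the points -/
def Pt (m : ℕ) (F : Type*) [Field F] : Type _ := ℙ F (Fin m ⊕ Fin m → F)

/-- the point of a vector -/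
def pt (v : V) (h0 : v ≠ 0) : Pt m F := Projectivization.mk F v h0

theorem exists_pt (x : Pt m F) : ∃ (v : V) (h0 : v ≠ 0), x = pt v h0 :=
  ⟨Projectivization.rep x, Projectivization.rep_nonzero x, (Projectivization.mk_rep x).symm⟩

theorem pt_eq_iff {v w : V} {h0 : v ≠ 0} {h0' : w ≠ 0} : pt v h0 = pt w h0' ↔ ∃ c : F, c • w = v :=
  Projectivization.mk_eq_mk_iff' F v w h0 h0'

instance ptAction : MulAction G (Pt m F) where
  smul A x := Projectivization.map (lin A) (lin_injective A) x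
  one_smul x := by
    obtain ⟨v, h0, rfl⟩ := exists_pt x
    change Projectivization.map (lin 1) (lin_injective 1) (Projectivization.mk F v h0) = Projectivization.mk F v h0
    rw [Projectivization.map_mk]
    congr 1
    exact Matrix.one_mulVec v
  mul_smul A B x := by
    obtain ⟨v, h0, rfl⟩ := exists_pt x
    change Projectivization.map (lin (A * B)) (lin_injective _) (Projectivization.mk F v h0) =
      Projectivization.map (lin A) (lin_injective _)
        (Projectivization.map (lin B) (lin_injective _) (Projectivization.mk F v h0))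
    rw [Projectivization.map_mk, Projectivization.map_mk, Projectivization.map_mk]
    congr 1
    exact (Matrix.mulVec_mulVec v (A : Matrix (Fin m ⊕ Fin m) (Fin m ⊕ Fin m) F) B).symm

theorem lin_ne_zero (A : G) {v : V} (h0 : v ≠ 0) : lin A v ≠ 0 := fun h =>
  h0 (lin_injective A (h.trans (map_zero (lin A)).symm))

theorem smul_pt (A : G) {v : V} (h0 : v ≠ 0) : A • (pt v h0 : Pt m F) = pt (lin A v) (lin_ne_zero A h0) :=
  Projectivization.map_mk _ _ _ _

theorem f_lin (A : G) (u v : V) : f (lin A u) (lin A v) = f u v := sympForm_mulVec A.2 u v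

/-- perpendicular and different -/
def Rel (x y : Pt m F) : Prop := x ≠ y ∧ f (Projectivization.rep x) (Projectivization.rep y) = 0

theorem f_rep {u v : V} (hu : u ≠ 0) (hv : v ≠ 0) :
    f (Projectivization.rep (pt u hu)) (Projectivization.rep (pt v hv)) = 0 ↔ f u v = 0 := by
  obtain ⟨a, ha⟩ := Projectivization.exists_smul_eq_mk_rep F u hu
  obtain ⟨b, hb⟩ := Projectivization.exists_smul_eq_mk_rep F v hv
  have ha' : Projectivization.rep (pt u hu) = (a : F) • u := ha.symm
  have hb' : Projectivization.rep (pt v hv) = (b : F) • v := hb.symm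
  rw [ha', hb', sympForm_smul_left, sympForm_smul_right]
  simp

theorem rel_iff {u v : V} (hu : u ≠ 0) (hv : v ≠ 0) :
    Rel (pt u hu) (pt v hv) ↔ pt u hu ≠ (pt v hv : Pt m F) ∧ f u v = 0 := by
  unfold Rel
  rw [f_rep]

theorem rel_smul (A : G) {x y : Pt m F} (h : Rel x y) : Rel (A • x) (A • y) := by
  obtain ⟨u, hu, rfl⟩ := exists_pt x
  obtain ⟨v, hv, rfl⟩ := exists_pt y
  rw [rel_iff] at h
  refine ⟨fun h1 => h.1 (MulAction.injective A h1), ?_⟩
  rw [smul_pt, smul_pt, f_rep, f_lin]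
  exact h.2

theorem trans_pt (x y : Pt m F) : ∃ A : G, A • x = y := by
  obtain ⟨u, hu, rfl⟩ := exists_pt x
  obtain ⟨v, hv, rfl⟩ := exists_pt y
  obtain ⟨A, -, hA⟩ := exists_transvGroup_mulVec_eq hu hv
  refine ⟨A, ?_⟩
  rw [smul_pt]
  congr 1

theorem trans_opp {u v u' v' : V} {hu : u ≠ 0} {hv : v ≠ 0} {hu' : u' ≠ 0} {hv' : v' ≠ 0} (h : f u v ≠ 0)
    (h' : f u' v' ≠ 0) : ∃ A : G, A • pt u hu = (pt u' hu' : Pt m F) ∧ A • pt v hv = (pt v' hv' : Pt m F) := by
  obtain ⟨A, -, h1, h2⟩ := exists_transvGroup_hyperbolic (u := u) (v := (f u v)⁻¹ • v) (u' := u')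
    (v' := (f u' v')⁻¹ • v') (by rw [sympForm_smul_right, inv_mul_cancel₀ h])
    (by rw [sympForm_smul_right, inv_mul_cancel₀ h'])
  refine ⟨A, ?_, ?_⟩
  · rw [smul_pt, pt_eq_iff]
    exact ⟨1, by rw [one_smul]; exact h1.symm⟩
  · rw [smul_pt, pt_eq_iff]
    refine ⟨f u v * (f u' v')⁻¹, ?_⟩
    have h3 : lin A ((f u v)⁻¹ • v) = (f u' v')⁻¹ • v' := h2
    rw [map_smul] at h3
    rw [mul_smul, ← h3, smul_smul, mul_inv_cancel₀ h, one_smul]

/-- Moving a perpendicular vector. -/
theorem trans_perp_aux {u v v' : V} (hv : f u v = 0) (hv' : f u v' = 0) (hu : u ≠ 0)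
    (hne : ∀ c : F, c • u ≠ v) (hne' : ∀ c : F, c • u ≠ v') : ∃ A : G, lin A u = u ∧ lin A v = v' := by
  have hstep : ∀ {x y : V}, f u x = 0 → f u y = 0 → f x y ≠ 0 → ∃ A : G, lin A u = u ∧ lin A x = y := by
    intro x y hx hy hxy
    exact ⟨transv (y - x) (f x y)⁻¹, transv_sub_mulVec_of_eq _ (hx.trans hy.symm), transv_sub_mulVec hxy⟩
  by_cases hvv : f v v' = 0
  · obtain ⟨w₁, h1, h2⟩ := Cfsg.Agent.S0768.exists_perp hu hne
    obtain ⟨w₂, h3, h4⟩ := Cfsg.Agent.S0768.exists_perp hu hne'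
    obtain ⟨w, hw1, hw2, hw3⟩ : ∃ w, f u w = 0 ∧ f v w ≠ 0 ∧ f v' w ≠ 0 := by
      by_cases h5 : f v' w₁ = 0
      · by_cases h6 : f v w₂ = 0
        · refine ⟨w₁ + w₂, ?_, ?_, ?_⟩
          · rw [sympForm_add_right, h1, h3, add_zero]
          · rw [sympForm_add_right, h6, add_zero]; exact h2
          · rw [sympForm_add_right, h5, zero_add]; exact h4
        · exact ⟨w₂, h3, h6, h4⟩
      · exact ⟨w₁, h1, h2, h5⟩
    obtain ⟨A, hA1, hA2⟩ := hstep hv hw1 hw2
    obtain ⟨B, hB1, hB2⟩ := hstep hw1 hv' (by rw [sympForm_swap]; exact neg_ne_zero.2 hw3)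
    refine ⟨B * A, ?_, ?_⟩
    · rw [lin_apply, coe_mul_mulVec]
      change lin B (lin A u) = u
      rw [hA1, hB1]
    · rw [lin_apply, coe_mul_mulVec]
      change lin B (lin A v) = v'
      rw [hA2, hB2]
  · exact hstep hv hv' hvv

theorem trans_rel {x y x' y' : Pt m F} (h : Rel x y) (h' : Rel x' y') : ∃ A : G, A • x = x' ∧ A • y = y' := by
  obtain ⟨u, hu, rfl⟩ := exists_pt x
  obtain ⟨v, hv, rfl⟩ := exists_pt y
  obtain ⟨u', hu', rfl⟩ := exists_pt x'
  obtain ⟨v', hv', rfl⟩ := exists_pt y'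
  rw [rel_iff] at h h'
  obtain ⟨A, -, hA⟩ := exists_transvGroup_mulVec_eq hu hu'
  have hA' : lin A u = u' := hA
  have h1 : f u' (lin A v) = 0 := by rw [← hA', f_lin]; exact h.2
  obtain ⟨B, hB1, hB2⟩ := trans_perp_aux h1 h'.2 hu' (fun c hc => h.1 (by
      rw [eq_comm, pt_eq_iff]
      refine ⟨c, lin_injective A ?_⟩
      rw [map_smul, hA', hc])) (fun c hc => h'.1 (by
      rw [eq_comm, pt_eq_iff]
      exact ⟨c, hc⟩))
  refine ⟨B * A, ?_, ?_⟩
  · rw [mul_smul, smul_pt, smul_pt]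
    congr 1
    rw [hA', hB1]
  · rw [mul_smul, smul_pt, smul_pt]
    congr 1

/-! ### counting -/

section count

variable [Fintype F]

instance : Finite (Pt m F) := (inferInstance : Finite (ℙ F (Fin m ⊕ Fin m → F)))

/-- the points of a subspace -/
theorem card_sub (W : Submodule F V) :
    Nat.card {x : Pt m F // Projectivization.rep x ∈ W} * (Fintype.card F - 1) = Nat.card W - 1 := by
  rw [Projectivization.card F W, Nat.card_eq_fintype_card (α := F)]
  congr 1
  have hinj := Projectivization.map_injective (τ := RingHom.id F) W.subtype W.subtype_injective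
  refine Nat.card_congr (Equiv.ofBijective (fun y : ℙ F W =>
    (⟨Projectivization.map W.subtype W.subtype_injective y, ?_⟩ : {x : Pt m F // Projectivization.rep x ∈ W}))
    ⟨fun y y' h => hinj (congrArg Subtype.val h), ?_⟩).symm
  · induction y using Projectivization.ind with
    | h w hw =>
      rw [Projectivization.map_mk]
      obtain ⟨a, ha⟩ := Projectivization.exists_smul_eq_mk_rep F (W.subtype w) (fun h => hw (Subtype.ext h))
      rw [← ha]
      exact W.smul_mem _ w.2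
  · rintro ⟨x, hx⟩
    have h0 : (⟨Projectivization.rep x, hx⟩ : W) ≠ 0 := fun h =>
      Projectivization.rep_nonzero x (congrArg Subtype.val h)
    refine ⟨Projectivization.mk F ⟨Projectivization.rep x, hx⟩ h0, Subtype.ext ?_⟩
    have h1 := Projectivization.map_mk W.subtype W.subtype_injective _ h0
    exact h1.trans (Projectivization.mk_rep x)

theorem card_pts : Nat.card (Pt m F) * (Fintype.card F - 1) = Fintype.card F ^ (2 * m) - 1 := by
  have h := Projectivization.card F V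
  rw [Nat.card_eq_fintype_card (α := F)] at h
  rw [show Nat.card (Pt m F) = Nat.card (ℙ F V) from rfl, ← h]
  rw [Module.natCard_eq_pow_finrank (K := F), SympFrames.finrank_space, Nat.card_eq_fintype_card]

theorem card_rel {u : V} (hu : u ≠ 0) :
    (Nat.card {y : Pt m F // Rel (pt u hu) y} + 1) * (Fintype.card F - 1) = Fintype.card F ^ (2 * m - 1) - 1 := by
  classical
  have h1 := card_sub (SympFrames.perp ![u])
  rw [show Nat.card (SympFrames.perp ![u]) = Nat.card F ^ Module.finrank F (SympFrames.perp ![u]) from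
    Module.natCard_eq_pow_finrank, SympFrames.finrank_perp (by
    rw [linearIndependent_unique_iff]; exact hu), Nat.card_eq_fintype_card (α := F)] at h1
  rw [← h1]
  congr 1
  have hmem : ∀ y : Pt m F, Projectivization.rep y ∈ SympFrames.perp ![u] ↔ y = pt u hu ∨ Rel (pt u hu) y := by
    intro y
    obtain ⟨v, hv, rfl⟩ := exists_pt y
    rw [SympFrames.mem_perp, Fin.forall_fin_one, rel_iff]
    obtain ⟨b, hb⟩ := Projectivization.exists_smul_eq_mk_rep F v hv
    have hb' : Projectivization.rep (pt v hv) = (b : F) • v := hb.symm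
    rw [hb', sympForm_smul_right, mul_eq_zero, or_iff_right b.ne_zero]
    change f u v = 0 ↔ _
    constructor
    · intro h
      by_cases he : pt v hv = pt u hu
      · exact Or.inl he
      · exact Or.inr ⟨Ne.symm he, h⟩
    · rintro (h | h)
      · obtain ⟨c, hc⟩ := pt_eq_iff.1 h
        rw [← hc, sympForm_smul_right, sympForm_self, mul_zero]
      · exact h.2
  have e1 : Nat.card {y : Pt m F // Projectivization.rep y ∈ SympFrames.perp ![u]} =
      Nat.card {y : Pt m F // y = pt u hu ∨ Rel (pt u hu) y} :=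
    Nat.card_congr (Equiv.subtypeEquivRight hmem)
  have : Fintype (Pt m F) := Fintype.ofFinite _
  rw [e1, Nat.card_eq_fintype_card, Nat.card_eq_fintype_card, Fintype.card_subtype, Fintype.card_subtype,
    Finset.filter_or, Finset.card_union_of_disjoint, add_comm]
  · congr 1
    have e2 : (Finset.univ.filter fun x : Pt m F => x = pt u hu) = {pt u hu} := by
      ext x
      simp
    rw [e2, Finset.card_singleton]
  · rw [Finset.disjoint_filter]
    rintro y - rfl h
    exact h.1 rfl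

theorem card_com {u v : V} (hu : u ≠ 0) (hv : v ≠ 0) (h : f u v ≠ 0) :
    com Rel (pt u hu) (pt v hv : Pt m F) * (Fintype.card F - 1) = Fintype.card F ^ (2 * m - 2) - 1 := by
  have hli : LinearIndependent F ![u, v] := by
    rw [LinearIndependent.pair_iff]
    intro s t hst
    have h1 : f u (s • u + t • v) = 0 := by rw [hst, sympForm_zero_right]
    have h2 : f v (s • u + t • v) = 0 := by rw [hst, sympForm_zero_right]
    rw [sympForm_add_right, sympForm_smul_right, sympForm_smul_right, sympForm_self, mul_zero, zero_add] at h1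
    rw [sympForm_add_right, sympForm_smul_right, sympForm_smul_right, sympForm_self, mul_zero, add_zero,
      sympForm_swap] at h2
    exact ⟨(mul_eq_zero.1 h2).resolve_right (neg_ne_zero.2 h), (mul_eq_zero.1 h1).resolve_right h⟩
  have h1 := card_sub (SympFrames.perp ![u, v])
  rw [show Nat.card (SympFrames.perp ![u, v]) = Nat.card F ^ Module.finrank F (SympFrames.perp ![u, v]) from
    Module.natCard_eq_pow_finrank, SympFrames.finrank_perp hli, Nat.card_eq_fintype_card (α := F)] at h1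
  rw [← h1]
  congr 1
  unfold com
  refine Nat.card_congr (Equiv.subtypeEquivRight fun z => ?_)
  obtain ⟨w, hw, rfl⟩ := exists_pt z
  rw [SympFrames.mem_perp, Fin.forall_fin_two, rel_iff, rel_iff]
  obtain ⟨b, hb⟩ := Projectivization.exists_smul_eq_mk_rep F w hw
  have hb' : Projectivization.rep (pt w hw) = (b : F) • w := hb.symm
  rw [hb', sympForm_smul_right, sympForm_smul_right, mul_eq_zero, mul_eq_zero, or_iff_right b.ne_zero,
    or_iff_right b.ne_zero]
  change (_ ∧ f u w = 0) ∧ (_ ∧ f w v = 0) ↔ f u w = 0 ∧ f v w = 0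
  constructor
  · rintro ⟨⟨-, h2⟩, -, h3⟩
    exact ⟨h2, by rw [sympForm_swap, h3, neg_zero]⟩
  · rintro ⟨h2, h3⟩
    have h4 : f w v = 0 := by rw [sympForm_swap, h3, neg_zero]
    refine ⟨⟨fun he => h ?_, h2⟩, fun he => h ?_, h4⟩
    · obtain ⟨c, hc⟩ := pt_eq_iff.1 he
      rw [← hc, sympForm_smul_left, h4, mul_zero]
    · obtain ⟨c, hc⟩ := pt_eq_iff.1 he.symm
      rw [← hc, sympForm_smul_right, h2, mul_zero]

/-- **Rank three.** -/
theorem r3 (hm : 2 ≤ m) : ∃ b : ℕ, 0 < b ∧ b * (Fintype.card F - 1) = Fintype.card F ^ (2 * m - 2) - 1 ∧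
    R3 G (Pt m F) Rel (Fintype.card F * b) (Fintype.card F ^ (2 * m - 1)) ∧
    ∃ x₀ y₀ : Pt m F, x₀ ≠ y₀ ∧ ¬ Rel x₀ y₀ ∧ com Rel x₀ y₀ = b := by
  classical
  have hq : 2 ≤ Fintype.card F := Fintype.one_lt_card
  obtain ⟨u, v, huv⟩ : ∃ u v : V, f u v ≠ 0 := by
    refine ⟨Pi.single (Sum.inr ⟨0, by omega⟩) 1, Pi.single (Sum.inl ⟨0, by omega⟩) 1, ?_⟩
    rw [sympForm_single_inr_left, Pi.single_eq_same]
    exact one_ne_zero
  have hu : u ≠ 0 := by
    rintro rfl
    exact huv (sympForm_zero_left _)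
  have hv : v ≠ 0 := by
    rintro rfl
    exact huv (sympForm_zero_right _)
  obtain ⟨b, hb⟩ : ∃ b, b = com Rel (pt u hu) (pt v hv : Pt m F) := ⟨_, rfl⟩
  have h1 := card_com hu hv huv
  rw [← hb] at h1
  have h2 := card_rel (m := m) hu
  have h3 := card_pts (F := F) (m := m)
  obtain ⟨k, hk⟩ : ∃ k, k = Nat.card {y : Pt m F // Rel (pt u hu) y} := ⟨_, rfl⟩
  rw [← hk] at h2
  obtain ⟨q, hqq⟩ : ∃ q, q = Fintype.card F := ⟨_, rfl⟩
  rw [← hqq] at h1 h2 h3 hq ⊢
  have e1 : q ^ (2 * m - 1) = q * q ^ (2 * m - 2) := by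
    rw [← pow_succ']; congr 1; omega
  have e2 : q ^ (2 * m) = q * q * q ^ (2 * m - 2) := by
    rw [← sq, ← pow_add]; congr 1; omega
  have hP : 1 ≤ q ^ (2 * m - 2) := Nat.one_le_pow _ _ (by omega)
  rw [e1] at h2
  rw [e2] at h3
  rw [e1]
  obtain ⟨P, hPP⟩ : ∃ P, P = q ^ (2 * m - 2) := ⟨_, rfl⟩
  have hb0 : 0 < b := by
    rcases Nat.eq_zero_or_pos b with h | h
    · exfalso
      rw [h, zero_mul] at h1
      have : q ^ 1 ≤ q ^ (2 * m - 2) := Nat.pow_le_pow_right (by omega) (by omega)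
      rw [pow_one] at this
      omega
    · exact h
  rw [← hPP] at h1 h2 h3 hP ⊢
  obtain ⟨c, hc⟩ : ∃ c, q = c + 1 := ⟨q - 1, by omega⟩
  have hc0 : 0 < c := by omega
  subst hc
  rw [Nat.add_sub_cancel] at h1 h2 h3
  have h1' : b * c + 1 = P := by omega
  have h2' : (k + 1) * c + 1 = (c + 1) * P := by
    have : 1 ≤ (c + 1) * P := Nat.mul_pos (by omega) hP
    omega
  have h3' : Nat.card (Pt m F) * c + 1 = (c + 1) * (c + 1) * P := by
    have : 1 ≤ (c + 1) * (c + 1) * P := Nat.mul_pos (by positivity) hP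
    omega
  have hkb : k = (c + 1) * b := by
    apply Nat.eq_of_mul_eq_mul_right hc0
    have : (k + 1) * c + 1 = (c + 1) * (b * c + 1) := by rw [h2', h1']
    nlinarith
  have hn : Nat.card (Pt m F) = 1 + (c + 1) * b + (c + 1) * P := by
    apply Nat.eq_of_mul_eq_mul_right hc0
    have : Nat.card (Pt m F) * c + 1 = (c + 1) * (c + 1) * (b * c + 1) := by rw [h3', h1']
    rw [← h1']
    nlinarith
  refine ⟨b, hb0, by rw [Nat.add_sub_cancel]; omega, ?_, pt u hu, pt v hv, ?_, ?_, hb.symm⟩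
  · refine ⟨⟨trans_pt⟩, ?_, fun x h => h.1 rfl, fun A x y h => rel_smul A h, fun x y x' y' => trans_rel, ?_, ?_,
      Nat.mul_pos (by omega) hb0, Nat.mul_pos (by omega) hP, hn⟩
    · rintro x y ⟨h4, h5⟩
      exact ⟨h4.symm, by rw [sympForm_swap, h5, neg_zero]⟩
    · intro x y x' y' h4 h5 h6 h7
      obtain ⟨u, hu, rfl⟩ := exists_pt x
      obtain ⟨v, hv, rfl⟩ := exists_pt y
      obtain ⟨u', hu', rfl⟩ := exists_pt x'
      obtain ⟨v', hv', rfl⟩ := exists_pt y'
      rw [rel_iff] at h5 h7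
      exact trans_opp (fun h => h5 ⟨h4, h⟩) (fun h => h7 ⟨h6, h⟩)
    · intro x
      obtain ⟨w, hw, rfl⟩ := exists_pt x
      have h4 := card_rel (m := m) hw
      rw [← hqq, Nat.add_sub_cancel, e1, ← hPP] at h4
      have h5 : (Nat.card {y : Pt m F // Rel (pt w hw) y} + 1) * c = (k + 1) * c := by
        rw [h4]
        omega
      have h6 := Nat.eq_of_mul_eq_mul_right hc0 h5
      omega
  · intro h
    obtain ⟨c, hc⟩ := pt_eq_iff.1 h
    rw [← hc, sympForm_smul_left, sympForm_self, mul_zero] at huv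
    exact huv rfl
  · rw [rel_iff]
    exact fun h => huv h.2

/-- The characters of `PSp_4(q)`. -/
theorem exists_chars_two : ∃ (χ₁ χ₂ : PSp 2 F → ℂ) (d e : ℕ), IsIrrCharacter _ χ₁ ∧ IsIrrCharacter _ χ₂ ∧
    χ₁ 1 = d ∧ χ₂ 1 = e ∧ 2 * d = Fintype.card F * (Fintype.card F + 1) ^ 2 ∧
      2 * e = Fintype.card F * (Fintype.card F ^ 2 + 1) := by
  classical
  obtain ⟨b, hb0, hb, hr3, x₀, y₀, hxy, hR, hcom⟩ := r3 (F := F) (m := 2) le_rfl
  have hq : 2 ≤ Fintype.card F := Fintype.one_lt_card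
  obtain ⟨q, hqq⟩ : ∃ q, q = Fintype.card F := ⟨_, rfl⟩
  rw [← hqq] at hb hr3 hq ⊢
  have hb1 : b = q + 1 := by
    apply Nat.eq_of_mul_eq_mul_right (show 0 < q - 1 by omega)
    rw [hb]
    have : q ^ (2 * 2 - 2) - 1 = q ^ 2 - 1 ^ 2 := by norm_num
    rw [this, Nat.sq_sub_sq]
  have hl : q ^ (2 * 2 - 1) = q ^ 3 := by norm_num
  rw [hl, hb1] at hr3
  have := Fintype.ofFinite (Pt 2 F)
  have hfin : Finite (Matrix.symplecticGroup (Fin 2) F) := inferInstance
  obtain ⟨χ₁, χ₂, d, e, hd, he, h1, h2, -, h3⟩ := Cfsg.Agent.H113.PSU.Rank3.frame_exact hr3 hxy hR (b := q + 1)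
    (by rw [hcom, hb1]) (r := (q : ℤ) - 1) (s := -(q : ℤ) - 1) (by omega) (by push_cast; ring) (by push_cast; ring)
  have hcen : ∀ z ∈ Subgroup.center (Matrix.symplecticGroup (Fin 2) F), ∀ y : Pt 2 F, z • y = y := by
    intro z hz y
    obtain ⟨v, h0, rfl⟩ := exists_pt y
    rw [smul_pt, pt_eq_iff]
    rcases Cfsg.Agent.ClassicalGeometry.SympInvolutions.center_eq hz with h | h
    · refine ⟨1, ?_⟩
      rw [lin_apply, h, Matrix.one_mulVec, one_smul]
    · refine ⟨-1, ?_⟩
      rw [lin_apply, h, Matrix.neg_mulVec, Matrix.one_mulVec, neg_one_smul]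
  obtain ⟨η₁, hη₁, hη₁'⟩ := Cfsg.Agent.H477.HC.exists_quot (Subgroup.center (Matrix.symplecticGroup (Fin 2) F)) χ₁.2
    (fun z hz => by rw [(h3 z (hcen z hz)).1, hd])
  obtain ⟨η₂, hη₂, hη₂'⟩ := Cfsg.Agent.H477.HC.exists_quot (Subgroup.center (Matrix.symplecticGroup (Fin 2) F)) χ₂.2
    (fun z hz => by rw [(h3 z (hcen z hz)).2, he])
  have hq0 : (q : ℤ) ≠ 0 := by omega
  refine ⟨η₁, η₂, d, e, hη₁, hη₂, ?_, ?_, ?_, ?_⟩
  · rw [← hd, ← hη₁' 1]; rfl
  · rw [← he, ← hη₂' 1]; rfl
  · zify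
    apply mul_left_cancel₀ hq0
    push_cast at h1
    linear_combination h1
  · zify
    apply mul_left_cancel₀ hq0
    push_cast at h2
    linear_combination h2

end count

end Cfsg.Agent.H695.Lie.SpPoints
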